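import Cfsg.Agent.Lib.Solvable.Hall
import Cfsg.Agent.Lib.PStable.Involved
import Cfsg.Agent.Lib.CN.Basic
import Cfsg.Agent.Lib.Involutions.Basic
import Cfsg.Agent.Lib.OddChar.OddTheorem
import Cfsg.Agent.Lib.FiniteGroup.PermSmall

/-!
A minimal non-solvable group in which the subgroups of order prime to `p` are nilpotent.
-/

set_option autoImplicit false
set_option linter.style.haveILetI false
set_option linter.unusedSectionVars false

namespace Cfsg.Agent.PNilCrit

open Subgroup

universe u

variable {G : Type u} [Group G] [Finite G] {p : ℕ}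

/-- A simple group, all proper subgroups solvable, all subgroups of order prime to `p` nilpotent. -/
structure Min (p : ℕ) (G : Type u) [Group G] : Prop where
  prime : p.Prime
  five : 5 ≤ p
  hnil : ∀ H : Subgroup G, (Nat.card H).Coprime p → Group.IsNilpotent H
  simple : IsSimpleGroup G
  nsol : ¬ Group.IsSolvable G
  solv : ∀ X : Subgroup G, X ≠ ⊤ → Group.IsSolvable X

/-- A Hall subgroup for the primes other than `p`, above a given subgroup. -/
theorem exists_hall_ge {K A : Subgroup G} [Group.IsSolvable K] (hp : p.Prime) (hA : A ≤ K)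
    (hAc : (Nat.card A).Coprime p) :
    ∃ H : Subgroup G, A ≤ H ∧ H ≤ K ∧ (Nat.card H).Coprime p ∧ ∃ k : ℕ, Nat.card K = Nat.card H * p ^ k := by
  set k := (Nat.card K).factorization p with hk
  set m := Nat.card K / p ^ k with hm
  have hKm : Nat.card K = m * p ^ k := (Nat.div_mul_cancel (Nat.ordProj_dvd _ _)).symm
  have hmp : m.Coprime p := (Nat.coprime_ordCompl hp (Nat.card_pos (α := K)).ne').symm
  obtain ⟨H, hH, hAH⟩ := HallSolv.exists_hall_ge (G := K) hKm (hmp.pow_right k) (K := A.subgroupOf K) (by
    rw [Nat.card_congr (subgroupOfEquivOfLe hA).toEquiv]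
    exact hAc.pow_right k)
  have hcard : Nat.card (H.map K.subtype) = m := by
    rw [card_map_of_injective K.subtype_injective, hH]
  refine ⟨H.map K.subtype, fun a ha => ⟨⟨a, hA ha⟩, hAH (mem_subgroupOf.2 ha), rfl⟩, map_subtype_le _,
    by rw [hcard]; exact hmp, k, by rw [hcard]; exact hKm⟩

/-- Images of order prime to `p` of solvable subgroups are nilpotent. -/
theorem nil_of_surj (hp : p.Prime) (hnil : ∀ H : Subgroup G, (Nat.card H).Coprime p → Group.IsNilpotent H)
    {K : Subgroup G} [Group.IsSolvable K] {Y : Type*} [Group Y] [Finite Y] (ψ : K →* Y)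
    (hψ : Function.Surjective ψ) (hY : (Nat.card Y).Coprime p) : Group.IsNilpotent Y := by
  obtain ⟨H, -, hHK, hHc, k, hk⟩ := exists_hall_ge (K := K) (A := ⊥) hp bot_le (by rw [card_bot]; exact Nat.coprime_one_left p)
  haveI := hnil H hHc
  let f : H →* Y := ψ.comp (inclusion hHK)
  have hidx : (H.subgroupOf K).index = p ^ k := by
    have h1 := (H.subgroupOf K).card_mul_index
    rw [Nat.card_congr (subgroupOfEquivOfLe hHK).toEquiv, hk] at h1
    exact Nat.eq_of_mul_eq_mul_left Nat.card_pos h1
  have h2 : f.range = (H.subgroupOf K).map ψ := by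
    ext y
    constructor
    · rintro ⟨x, rfl⟩
      exact ⟨inclusion hHK x, x.2, rfl⟩
    · rintro ⟨x, hx, rfl⟩
      exact ⟨⟨x, hx⟩, rfl⟩
  have h3 : f.range.index ∣ p ^ k := by
    rw [h2, ← hidx]; exact index_map_dvd _ hψ
  have h4 : f.range.index = 1 :=
    Nat.eq_one_of_dvd_coprimes (hY.pow_right k) f.range.index_dvd_card h3
  exact Group.nilpotent_of_surjective f (MonoidHom.range_eq_top.1 (index_eq_one.1 h4))

/-- A dihedral group of order prime to `p`: an inverted element of such an order centralises. -/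
theorem sq_eq_one_of_inverted (hp2 : p ≠ 2) (hp : p.Prime)
    (hnil : ∀ H : Subgroup G, (Nat.card H).Coprime p → Group.IsNilpotent H) {y t : G} (ht : orderOf t = 2)
    (hy : (orderOf y).Coprime p) (hyo : Odd (orderOf y)) (hinv : t * y * t⁻¹ = y⁻¹) : y = 1 := by
  have hle : zpowers t ≤ normalizer (zpowers y : Set G) := by
    rw [zpowers_le, mem_normalizer_iff_map_conj_eq, MonoidHom.map_zpowers]
    show zpowers (t * y * t⁻¹) = _
    rw [hinv, zpowers_inv]
  have hcard : (Nat.card ↥(zpowers t ⊔ zpowers y)).Coprime p := by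
    have hd : Nat.card ↥(zpowers t ⊔ zpowers y) ∣ 2 * orderOf y := by
      have h1 : Nat.card ↥(zpowers t ⊔ zpowers y) =
          (zpowers y).relIndex (zpowers t ⊔ zpowers y) * Nat.card ↥(zpowers y) := by
        rw [← relIndex_bot_left (zpowers t ⊔ zpowers y), ← relIndex_mul_relIndex ⊥ (zpowers y) _ bot_le le_sup_right,
          relIndex_bot_left, mul_comm]
      rw [h1, Nat.card_zpowers]
      refine Nat.mul_dvd_mul_right ?_ _
      have h2 : (zpowers y).relIndex (zpowers t ⊔ zpowers y) = (zpowers y).relIndex (zpowers t) := by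
        rw [← relIndex_subgroupOf (sup_le hle le_normalizer), subgroupOf_sup hle le_normalizer,
          relIndex_sup_right, relIndex_subgroupOf hle]
      rw [h2]
      exact (relIndex_dvd_card _ _).trans (by rw [Nat.card_zpowers, ht])
    exact Nat.Coprime.coprime_dvd_left hd (Nat.Coprime.mul_left ((Nat.coprime_primes Nat.prime_two hp).2 (Ne.symm hp2)) hy)
  have hc := CN.commute_of_coprime (hnil _ hcard) (mem_sup_left (mem_zpowers t)) (mem_sup_right (mem_zpowers y))
    (by rw [ht]; exact Nat.coprime_two_left.2 hyo)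
  rw [hc.eq, mul_inv_cancel_right] at hinv
  exact Invol.eq_one_of_sq_of_odd hyo (by rw [pow_two]; exact mul_eq_one_iff_eq_inv.2 hinv)

namespace Min

variable (h : Min p G)
include h

theorem ne_two : p ≠ 2 := by have := h.five; omega

theorem bot_ne_top : (⊥ : Subgroup G) ≠ ⊤ :=
  haveI := h.simple
  _root_.bot_ne_top

theorem center_eq_bot : center G = ⊥ := by
  haveI := h.simple
  rcases (inferInstance : (center G).Normal).eq_bot_or_eq_top with e | e
  · exact e
  · refine absurd ?_ h.nsol
    exact Group.isSolvable_of_comm fun a b => (mem_center_iff.1 (e ▸ mem_top b) a)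

theorem eq_bot_of_normal {N : Subgroup G} [N.Normal] (hN : N ≠ ⊤) : N = ⊥ := by
  haveI := h.simple
  exact (Subgroup.Normal.eq_bot_or_eq_top (H := N) inferInstance).resolve_right hN

theorem normalizer_ne_top {A : Subgroup G} (hA : A ≠ ⊥) (hA' : A ≠ ⊤) :
    normalizer (A : Set G) ≠ ⊤ := fun e => by
  haveI := normalizer_eq_top_iff.1 e
  exact hA (h.eq_bot_of_normal hA')

theorem centralizer_ne_top {x : G} (hx : x ≠ 1) : centralizer ({x} : Set G) ≠ ⊤ := fun e => hx <| by
  have : x ∈ center G := mem_center_iff.2 fun g => mem_centralizer_singleton_iff.1 (e ▸ mem_top g)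
  rwa [h.center_eq_bot, mem_bot] at this

theorem even : Even (Nat.card G) := by
  by_contra he
  exact h.nsol (OddChar.oddSolvable G (Nat.not_even_iff_odd.1 he))

theorem not_involves {X : Type} [Group X] [Finite X] (hXs : Group.IsSolvable X) (hX : ¬ Group.IsNilpotent X)
    (hXp : (Nat.card X).Coprime p) : ¬ Cfsg.Involves X G := fun hi => by
  obtain ⟨K, ψ, hψ⟩ := PStable.exists_surjective_of_involves hi
  by_cases hK : K = ⊤
  · subst hK
    set f : G →* X := ψ.comp topEquiv.symm.toMonoidHom
    have hf : Function.Surjective f := hψ.comp topEquiv.symm.surjective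
    haveI := h.simple
    rcases (inferInstance : f.ker.Normal).eq_bot_or_eq_top with e | e
    · exact h.nsol (Group.isSolvable_of_isSolvable_injective (f := f) ((MonoidHom.ker_eq_bot_iff f).1 e))
    · refine hX ?_
      haveI : Subsingleton X := ⟨fun a b => by
        obtain ⟨x, rfl⟩ := hf a
        obtain ⟨y, rfl⟩ := hf b
        rw [MonoidHom.mem_ker.1 (e ▸ mem_top x : x ∈ f.ker), MonoidHom.mem_ker.1 (e ▸ mem_top y : y ∈ f.ker)]⟩
      infer_instance
  · haveI := h.solv K hK
    exact hX (nil_of_surj h.prime h.hnil ψ hψ hXp)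

theorem s4_free : ¬ Cfsg.Involves (Equiv.Perm (Fin 4)) G := by
  refine h.not_involves ?_ ?_ ?_
  · exact PermSmall.isSolvable_perm_fin_four
  · intro hn
    have := CN.commute_of_coprime (K := (⊤ : Subgroup (Equiv.Perm (Fin 4)))) (Group.nilpotent_of_mulEquiv topEquiv.symm)
      (x := Equiv.swap 0 1) (y := Equiv.swap 0 1 * Equiv.swap 1 2) (mem_top _) (mem_top _) (by
        rw [orderOf_eq_prime (p := 2) (by decide) (by decide), orderOf_eq_prime (p := 3) (by decide) (by decide)]
        norm_num)
    exact absurd this.eq (by decide)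
  · rw [Nat.card_perm, Nat.card_eq_fintype_card, Fintype.card_fin]
    refine Nat.Coprime.symm ((h.prime.coprime_iff_not_dvd).2 fun hd => ?_)
    have := Nat.le_of_dvd (by decide) hd
    rw [show Nat.factorial 4 = 24 from rfl] at hd this
    have h5 := h.five
    interval_cases p <;> first | omega | exact absurd h.prime (by decide)

end Min

end Cfsg.Agent.PNilCrit
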