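import Cfsg.Agent.Lib.Transfer.Basic
import Cfsg.Agent.Lib.Solvable.Fitting
import Cfsg.Agent.Lib.LocalEven.SylowAux
import Cfsg.Prelude.Def_CaseTheorems

/-!
An abelian strongly closed 2-subgroup of a solvable group is normal modulo the odd core.
-/

set_option autoImplicit false
set_option linter.style.haveILetI false
set_option linter.unusedSectionVars false

namespace Cfsg.Agent.PNilCrit

open Subgroup

/-- Strong closure of `W` in all the 2-subgroups above it. -/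
def SC {G : Type*} [Group G] (W : Subgroup G) : Prop :=
  ∀ T : Subgroup G, IsPGroup 2 T → W ≤ T → ∀ x ∈ W, ∀ y : G, y * x * y⁻¹ ∈ T → y * x * y⁻¹ ∈ W

variable {G : Type*} [Group G] [Finite G]

theorem SC.le_normalizer {W : Subgroup G} (hsc : SC W) {T : Subgroup G} (hT : IsPGroup 2 T) (hWT : W ≤ T) :
    T ≤ normalizer (W : Set G) :=
  le_normalizer_iff.2 fun t ht x hx => hsc T hT hWT x hx t (mul_mem (mul_mem ht (hWT hx)) (inv_mem ht))

theorem coprime_comm_fix {a g w : G} {k : ℕ} (hw : w ^ 2 ^ k = 1) (hg : Odd (orderOf g))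
    (h : g * a * g⁻¹ = w * a) (hc : g * w = w * g) : g * a = a * g := by
  have hi : ∀ i : ℕ, g ^ i * a * (g ^ i)⁻¹ = w ^ i * a := by
    intro i
    induction i with
    | zero => simp
    | succ i ih =>
      calc g ^ (i + 1) * a * (g ^ (i + 1))⁻¹ = g * (g ^ i * a * (g ^ i)⁻¹) * g⁻¹ := by group
        _ = (g * w ^ i * g⁻¹) * (g * a * g⁻¹) := by rw [ih]; group
        _ = w ^ (i + 1) * a := by
          rw [(Commute.pow_right hc i).eq, mul_inv_cancel_right, h, pow_succ, mul_assoc]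
  have h1 := hi (orderOf g)
  rw [pow_orderOf_eq_one, one_mul, inv_one, mul_one] at h1
  have hw1 : w = 1 := orderOf_eq_one_iff.1 (Nat.eq_one_of_dvd_coprimes
    (Nat.Coprime.pow_left k (Nat.coprime_two_left.2 hg)) (orderOf_dvd_of_pow_eq_one hw)
    (orderOf_dvd_of_pow_eq_one (mul_eq_right.1 h1.symm)))
  rw [hw1, one_mul] at h
  exact mul_inv_eq_iff_eq_mul.1 h

/-- The stabiliser of a series of normal subgroups. -/
def stabSub (T W0 : Subgroup G) [T.Normal] (hW0 : ∀ x ∈ W0, ∀ g : G, g * x * g⁻¹ ∈ W0) : Subgroup G where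
  carrier := {g | (∀ a ∈ T, g * a * g⁻¹ * a⁻¹ ∈ W0) ∧ ∀ w ∈ W0, g * w = w * g}
  one_mem' := ⟨fun a _ => by simp, fun w _ => by simp⟩
  mul_mem' := fun {x y} hx hy => ⟨fun a ha => by
      rw [show x * y * a * (x * y)⁻¹ * a⁻¹ =
        x * (y * a * y⁻¹ * a⁻¹) * x⁻¹ * (x * a * x⁻¹ * a⁻¹) by simp [mul_assoc]]
      exact mul_mem (hW0 _ (hy.1 a ha) x) (hx.1 a ha),
    fun w hw => by rw [mul_assoc, hy.2 w hw, ← mul_assoc, hx.2 w hw, mul_assoc]⟩
  inv_mem' := fun {x} hx => ⟨fun a ha => by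
      have ha' : x⁻¹ * a * x⁻¹⁻¹ ∈ T := Subgroup.Normal.conj_mem (H := T) inferInstance a ha x⁻¹
      have h1 := inv_mem (hx.1 _ ha')
      simpa [mul_assoc] using h1,
    fun w hw => by
      rw [inv_mul_eq_iff_eq_mul, ← mul_assoc, hx.2 w hw, mul_inv_cancel_right]⟩

theorem stabSub_normal (T W0 : Subgroup G) [T.Normal] (hW0 : ∀ x ∈ W0, ∀ g : G, g * x * g⁻¹ ∈ W0) :
    (stabSub T W0 hW0).Normal := ⟨fun x hx g => ⟨fun a ha => by
    have ha' : g⁻¹ * a * g⁻¹⁻¹ ∈ T := Subgroup.Normal.conj_mem (H := T) inferInstance a ha g⁻¹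
    have h1 := hW0 _ (hx.1 _ ha') g
    simpa [mul_assoc] using h1,
    fun w hw => by
      have h1 := hx.2 _ (hW0 w hw g⁻¹)
      rw [inv_inv] at h1
      calc g * x * g⁻¹ * w = g * (x * (g⁻¹ * w * g)) * g⁻¹ := by simp [mul_assoc]
        _ = w * (g * x * g⁻¹) := by rw [h1]; simp [mul_assoc]⟩⟩

/-- With trivial odd core the subgroup is normal. -/
theorem normal_of_closed [Group.IsSolvable G] (hO : Cfsg.oddCore G = ⊥) {W : Subgroup G}
    (hW : IsPGroup 2 W) (hc : ∀ a ∈ W, ∀ b ∈ W, a * b = b * a) (hsc : SC W) : W.Normal := by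
  haveI : Fact (Nat.Prime 2) := ⟨Nat.prime_two⟩
  haveI := Cfsg.pCore_normal 2 G
  set T := Cfsg.pCore 2 G with hTdef
  have hTp : IsPGroup 2 T := PBasic.pCore_isPGroup 2 G
  have hTC : centralizer (T : Set G) ≤ T := FittingCores.centralizer_pCore_le Nat.prime_two hO
  have hTW : IsPGroup 2 ↥(T ⊔ W) := hTp.to_sup_of_normal_left hW
  have hnorm : T ⊔ W ≤ normalizer (W : Set G) := hsc.le_normalizer hTW le_sup_right
  have hW0 : ∀ x ∈ W ⊓ T, ∀ g : G, g * x * g⁻¹ ∈ W ⊓ T := fun x hx g => by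
    have h1 : g * x * g⁻¹ ∈ T := Subgroup.Normal.conj_mem inferInstance x hx.2 g
    exact ⟨hsc _ hTW le_sup_right x hx.1 g (mem_sup_left h1), h1⟩
  set M := stabSub T (W ⊓ T) hW0 with hMdef
  have hM : M.Normal := stabSub_normal T (W ⊓ T) hW0
  have hWM : W ≤ M := fun x hx => ⟨fun a ha => ⟨by
      have h1 : a * x⁻¹ * a⁻¹ ∈ W :=
        (mem_normalizer_iff.1 (hnorm (mem_sup_left ha)) _).1 (inv_mem hx)
      have h2 := mul_mem hx h1
      rwa [← mul_assoc, ← mul_assoc] at h2,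
    T.mul_mem (Subgroup.Normal.conj_mem inferInstance a ha x) (T.inv_mem ha)⟩,
    fun w hw => hc x hx w hw.1⟩
  have hMp : IsPGroup 2 M := fun m => by
    obtain ⟨u, v, huv, -, hv', ⟨k, hk⟩, hvo⟩ := PBasic.exists_pPart_mul (p := 2) (m : G)
    have hvM : v ∈ M := zpowers_le.2 m.2 hv'
    have hvT : v ∈ T := hTC (mem_centralizer_iff.2 fun a ha => by
      obtain ⟨k', hk'⟩ := hTp ⟨v * a * v⁻¹ * a⁻¹, (hvM.1 a ha).2⟩
      exact (coprime_comm_fix (congrArg Subtype.val hk') (Nat.coprime_two_right.1 hvo)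
        (inv_mul_cancel_right (v * a * v⁻¹) a).symm (hvM.2 _ (hvM.1 a ha))).symm)
    obtain ⟨k', hk'⟩ := hTp ⟨v, hvT⟩
    have hv1 : v = 1 := orderOf_eq_one_iff.1 (Nat.eq_one_of_dvd_coprimes (hvo.pow_right k') dvd_rfl
      (orderOf_dvd_of_pow_eq_one (congrArg Subtype.val hk')))
    refine ⟨k, Subtype.ext ?_⟩
    show (m : G) ^ 2 ^ k = 1
    rw [← huv, hv1, mul_one, ← hk, pow_orderOf_eq_one]
  have hWT : W ≤ T := hWM.trans (PBasic.le_pCore hM hMp)
  refine ⟨fun x hx g => ?_⟩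
  exact (hW0 x ⟨hx, hWT hx⟩ g).1

/-- In a solvable group: the odd core times the normaliser. -/
theorem good_of_closed [Group.IsSolvable G] {W : Subgroup G} (hW : IsPGroup 2 W)
    (hc : ∀ a ∈ W, ∀ b ∈ W, a * b = b * a) (hsc : SC W) (x : G) :
    ∃ o ∈ Cfsg.oddCore G, ∃ n ∈ normalizer (W : Set G), x = o * n := by
  haveI : Fact (Nat.Prime 2) := ⟨Nat.prime_two⟩
  set O := Cfsg.oddCore G with hOdef
  haveI : O.Normal := FittingCores.pPrimeCore_normal 2
  have hOc : (Nat.card O).Coprime 2 := PBasic.pPrimeCore_coprime 2 G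
  set f := QuotientGroup.mk' O with hf
  have hOW : ∀ {o w : G}, o ∈ O → w ∈ W → o = w → o = 1 := fun {o w} ho hw e => by
    obtain ⟨k, hk⟩ := hW ⟨w, hw⟩
    exact orderOf_eq_one_iff.1 (Nat.eq_one_of_dvd_coprimes (hOc.pow_right k)
      (O.orderOf_dvd_natCard ho) (orderOf_dvd_of_pow_eq_one (e ▸ congrArg Subtype.val hk)))
  have hscq : SC (W.map f) := by
    intro T' hT' hle x hx y hy
    obtain ⟨x, hxW, rfl⟩ := hx
    obtain ⟨y, rfl⟩ := QuotientGroup.mk'_surjective O y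
    set K := T'.comap f with hK
    have hWK : W ≤ K := fun w hw => hle ⟨w, hw, rfl⟩
    obtain ⟨S, hS⟩ := (hW.comap_of_injective K.subtype K.subtype_injective).exists_le_sylow
    have hyK : y * x * y⁻¹ ∈ K := by
      rw [hK, mem_comap, map_mul, map_mul, map_inv]
      exact hy
    have hxp : IsPGroup 2 ↥(zpowers (y * x * y⁻¹)) := by
      obtain ⟨k, hk⟩ := hW ⟨x, hxW⟩
      obtain ⟨i, -, hi⟩ := (Nat.dvd_prime_pow Nat.prime_two).1
        (orderOf_dvd_of_pow_eq_one (show (y * x * y⁻¹) ^ 2 ^ k = 1 by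
          rw [conj_pow, show x ^ 2 ^ k = 1 from congrArg Subtype.val hk, mul_one, mul_inv_cancel]))
      exact IsPGroup.of_card (n := i) (by rw [Nat.card_zpowers, hi])
    obtain ⟨c, hcK, hcle⟩ := LESylow.exists_conj_le_of_le (zpowers_le.2 hyK) hxp S
    -- the Sylow subgroup of the preimage maps onto `T'`
    have hsurj : ∀ g ∈ K, ∃ o ∈ O, ∃ s ∈ (S : Subgroup K).map K.subtype, g = o * s := by
      have hOK : O ≤ K := fun o ho => by
        rw [hK, mem_comap, show f o = 1 from (QuotientGroup.eq_one_iff o).2 ho]; exact one_mem _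
      haveI : (O.subgroupOf K).Normal := inferInstance
      have hidx : IsPGroup 2 (K ⧸ O.subgroupOf K) := by
        intro q
        obtain ⟨g, rfl⟩ := QuotientGroup.mk_surjective q
        obtain ⟨k, hk⟩ := hT' ⟨f g, g.2⟩
        exact ⟨k, by
          rw [← QuotientGroup.mk_pow, QuotientGroup.eq_one_iff, mem_subgroupOf]
          exact (QuotientGroup.eq_one_iff _).1 (by simpa [hf] using congrArg Subtype.val hk)⟩
      have htop : O.subgroupOf K ⊔ (S : Subgroup K) = ⊤ := by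
        rw [← index_eq_one]
        refine Nat.eq_one_of_dvd_coprimes ?_ (index_dvd_of_le le_sup_left) (index_dvd_of_le le_sup_right)
        obtain ⟨n, hn⟩ := IsPGroup.iff_card.1 hidx
        rw [show (O.subgroupOf K).index = 2 ^ n from hn]
        exact Nat.Coprime.pow_left n ((Nat.prime_two.coprime_iff_not_dvd).2 S.not_dvd_index)
      intro g hg
      obtain ⟨o, ho, s, hs, e⟩ := mem_sup_of_normal_left.1 (htop.ge (mem_top (⟨g, hg⟩ : K)))
      exact ⟨o, ho, s, ⟨s, hs, rfl⟩, (congrArg Subtype.val e).symm⟩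
    obtain ⟨o, ho, s, hs, rfl⟩ := hsurj c hcK
    have hsS : ∀ z ∈ (S : Subgroup K).map K.subtype, s⁻¹ * z * s ∈ (S : Subgroup K).map K.subtype :=
      fun z hz => mul_mem (mul_mem (inv_mem hs) hz) hs
    have h1 : s⁻¹ * (o * s * (y * x * y⁻¹) * (o * s)⁻¹) * s ∈ (S : Subgroup K).map K.subtype :=
      hsS _ (hcle ⟨_, mem_zpowers _, rfl⟩)
    set o' := s⁻¹ * o * s with ho'
    have ho'O : o' ∈ O := by
      have := Subgroup.Normal.conj_mem (H := O) inferInstance o ho s⁻¹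
      rwa [inv_inv] at this
    have e : s⁻¹ * (o * s * (y * x * y⁻¹) * (o * s)⁻¹) * s = o' * y * x * (o' * y)⁻¹ := by
      rw [ho']; group
    rw [e] at h1
    refine ⟨_, hsc _ (S.2.map K.subtype) (fun w hw => ⟨⟨w, hWK hw⟩, hS (mem_subgroupOf.2 hw), rfl⟩)
      x hxW _ h1, ?_⟩
    have h2 : f o' = 1 := (QuotientGroup.eq_one_iff o').2 ho'O
    simp only [map_mul, map_inv, h2, one_mul, mul_inv_rev, inv_one, mul_one, ← hf]
  haveI hn : (W.map f).Normal := by
    refine normal_of_closed (PBasic.pPrimeCore_quotient_pPrimeCore 2 G) (hW.map f) ?_ hscq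
    rintro _ ⟨a, ha, rfl⟩ _ ⟨b, hb, rfl⟩
    rw [← map_mul, ← map_mul, hc a ha b hb]
  -- Frattini
  set B := (W.map f).comap f with hB
  haveI : B.Normal := hn.comap f
  have hWB : W ≤ B := fun w hw => ⟨w, hw, rfl⟩
  have hcompl : ∀ b ∈ B, ∃ o ∈ O, ∃ w ∈ W, b = o * w := by
    rintro b ⟨w, hw, e⟩
    refine ⟨b * w⁻¹, ?_, w, hw, (inv_mul_cancel_right b w).symm⟩
    rw [← QuotientGroup.eq_one_iff (N := O)]
    show f (b * w⁻¹) = 1
    rw [map_mul, map_inv, e, mul_inv_cancel]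
  have hxW : W.map (MulAut.conj x).toMonoidHom ≤ B := by
    rintro _ ⟨w, hw, rfl⟩
    exact Subgroup.Normal.conj_mem inferInstance w (hWB hw) x
  have hidx : ¬ 2 ∣ (W.subgroupOf B).index := by
    have h1 := (W.subgroupOf B).card_mul_index
    rw [Nat.card_congr (subgroupOfEquivOfLe hWB).toEquiv] at h1
    have h2 : Nat.card B ≤ Nat.card O * Nat.card W := by
      rw [← Nat.card_prod]
      refine Nat.card_le_card_of_surjective
        (fun q : O × W => (⟨q.1.1 * q.2.1, mul_mem (by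
          show f q.1.1 ∈ W.map f
          rw [show f q.1.1 = 1 from (QuotientGroup.eq_one_iff _).2 q.1.2]
          exact one_mem _) (hWB q.2.2)⟩ : B)) fun b => ?_
      obtain ⟨o, ho, w, hw, e⟩ := hcompl b b.2
      exact ⟨(⟨o, ho⟩, ⟨w, hw⟩), Subtype.ext e.symm⟩
    intro hd
    have hdvd : Nat.card B = Nat.card O * Nat.card W := by
      refine le_antisymm h2 (Nat.le_of_dvd Nat.card_pos ?_)
      obtain ⟨n, hn'⟩ := IsPGroup.iff_card.1 hW
      refine Nat.Coprime.mul_dvd_of_dvd_of_dvd (by rw [hn']; exact hOc.pow_right n)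
        (card_dvd_of_le fun o ho => ?_) (card_dvd_of_le hWB)
      show f o ∈ W.map f
      rw [show f o = 1 from (QuotientGroup.eq_one_iff _).2 ho]
      exact one_mem _
    rw [hdvd, mul_comm] at h1
    rw [Nat.eq_of_mul_eq_mul_right Nat.card_pos h1] at hd
    exact (Nat.prime_two.coprime_iff_not_dvd.1 hOc.symm) hd
  let P : Sylow 2 B := IsPGroup.toSylow (P := W.subgroupOf B) (hW.comap_of_injective B.subtype B.subtype_injective) hidx
  have hP : (P : Subgroup B).map B.subtype = W := by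
    rw [show (P : Subgroup B) = W.subgroupOf B from rfl]
    exact map_subgroupOf_eq_of_le hWB
  obtain ⟨b, hb, hble⟩ := LESylow.exists_conj_le_of_le hxW (hW.map _) P
  rw [hP] at hble
  have hbx : b * x ∈ normalizer (W : Set G) := by
    refine mem_normalizer_iff_map_conj_eq.2 (eq_of_le_of_card_ge ?_
      (card_map_of_injective (MulAut.conj (b * x)).injective).ge)
    rintro _ ⟨w, hw, rfl⟩
    have := hble ⟨_, ⟨w, hw, rfl⟩, rfl⟩
    simpa [mul_assoc] using this
  obtain ⟨o, ho, w, hw, hbo⟩ := hcompl b⁻¹ (inv_mem hb)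
  exact ⟨o, ho, w * (b * x), mul_mem (le_normalizer hw) hbx, by
    rw [← mul_assoc, ← hbo, inv_mul_cancel_left]⟩

end Cfsg.Agent.PNilCrit
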