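import Cfsg.Agent.Lib.PNilCrit.Fusion

/-!
Orbits of central involutions have `p`-power length; `W` has order at least eight.
-/

set_option autoImplicit false
set_option linter.style.haveILetI false
set_option linter.unusedSectionVars false

namespace Cfsg.Agent.PNilCrit

open Subgroup

universe u

variable {G : Type u} [Group G] [Finite G] {p : ℕ}

/-- An element central in a Sylow 2-subgroup is central in a nilpotent overgroup. -/
theorem central_of_nil {H : Subgroup G} (hH : Group.IsNilpotent H) (S : Sylow 2 G) (hS : (S : Subgroup G) ≤ H)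
    {z : G} (hz : z ∈ (S : Subgroup G)) (hzc : ∀ s ∈ (S : Subgroup G), s * z = z * s) {x : G} (hx : x ∈ H) :
    x * z = z * x := by
  haveI : Fact (Nat.Prime 2) := ⟨Nat.prime_two⟩
  haveI := hH
  obtain ⟨u, v, huv, hu, hv, ⟨k, hk⟩, hvo⟩ := PBasic.exists_pPart_mul (p := 2) x
  have huH : u ∈ H := zpowers_le.2 hx hu
  have hvH : v ∈ H := zpowers_le.2 hx hv
  haveI : ((S.subtype hS : Sylow 2 H) : Subgroup H).Normal :=
    Sylow.normal_of_normalizerCondition Group.normalizerCondition_of_isNilpotent _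
  have huS : u ∈ (S : Subgroup G) := by
    have hp : IsPGroup 2 ↥(zpowers (⟨u, huH⟩ : H)) :=
      IsPGroup.of_card (n := k) (by rw [Nat.card_zpowers, Subgroup.orderOf_mk, hk])
    obtain ⟨Q, hQ⟩ := hp.exists_le_sylow
    haveI := (S.subtype hS).unique_of_normal inferInstance
    rw [Subsingleton.elim Q (S.subtype hS)] at hQ
    exact hQ (mem_zpowers _)
  obtain ⟨m, hm⟩ := S.2 ⟨z, hz⟩
  have hvz : Commute v z := CN.commute_of_coprime hH hvH (hS hz)
    (Nat.Coprime.coprime_dvd_right (orderOf_dvd_of_pow_eq_one (congrArg Subtype.val hm)) (hvo.pow_right m))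
  rw [← huv, mul_assoc, hvz.eq, ← mul_assoc, hzc u huS, mul_assoc]

/-- The orbit under a subgroup, by conjugation. -/
def orb (N : Subgroup G) (z : G) : Set G := {w | ∃ n ∈ N, n * z * n⁻¹ = w}

theorem card_orb (N : Subgroup G) (z : G) :
    Nat.card (orb N z) = ((centralizer ({z} : Set G)).subgroupOf N).index := by
  let C := (centralizer ({z} : Set G)).subgroupOf N
  have hrel : ∀ a b : N, (a : G) * z * (a : G)⁻¹ = b * z * (b : G)⁻¹ ↔ a⁻¹ * b ∈ C := fun a b => by
    rw [mem_subgroupOf, mem_centralizer_singleton_iff, Subgroup.coe_mul, Subgroup.coe_inv]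
    constructor
    · intro e
      calc (a : G)⁻¹ * b * z = (a : G)⁻¹ * (b * z * (b : G)⁻¹) * b := by group
        _ = z * ((a : G)⁻¹ * b) := by rw [← e]; group
    · intro e
      calc (a : G) * z * (a : G)⁻¹ = a * (z * ((a : G)⁻¹ * b)) * (b : G)⁻¹ := by group
        _ = b * z * (b : G)⁻¹ := by rw [← e]; group
  let f : N ⧸ C → orb N z := Quotient.lift (fun n : N => (⟨n * z * (n : G)⁻¹, n, n.2, rfl⟩ : orb N z))
    fun a b hab => Subtype.ext ((hrel a b).2 (QuotientGroup.leftRel_apply.1 hab))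
  refine (Nat.card_eq_of_bijective f ⟨fun a b hab => ?_, fun w => ?_⟩).symm
  · induction a using QuotientGroup.induction_on
    induction b using QuotientGroup.induction_on
    exact QuotientGroup.eq.2 ((hrel _ _).1 (congrArg Subtype.val hab))
  · obtain ⟨_, n, hn, rfl⟩ := w
    exact ⟨(⟨n, hn⟩ : N), rfl⟩

variable {S : Sylow 2 G} {W : Subgroup G}

/-- The orbit of a central involution. -/
theorem orbit_pow (h : Min p G) {N : Subgroup G} (hN : N ≠ ⊤) (hS : (S : Subgroup G) ≤ N) {z : G}
    (hz : z ∈ (S : Subgroup G)) (hzc : ∀ s ∈ (S : Subgroup G), s * z = z * s) :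
    ∃ j : ℕ, Nat.card (orb N z) = p ^ j := by
  haveI := h.solv N hN
  obtain ⟨k, hk⟩ := IsPGroup.iff_card.1 S.2
  obtain ⟨H, hSH, hHN, hHc, m, hm⟩ := exists_hall_ge (K := N) h.prime hS (by
    rw [hk]; exact ((Nat.coprime_primes Nat.prime_two h.prime).2 (Ne.symm h.ne_two)).pow_left k)
  have hle : H.subgroupOf N ≤ (centralizer ({z} : Set G)).subgroupOf N := fun x hx =>
    mem_subgroupOf.2 (mem_centralizer_singleton_iff.2
      (central_of_nil (h.hnil H hHc) S hSH hz hzc (mem_subgroupOf.1 hx)))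
  have hidx : (H.subgroupOf N).index = p ^ m := by
    have h1 := (H.subgroupOf N).card_mul_index
    rw [Nat.card_congr (subgroupOfEquivOfLe hHN).toEquiv, hm] at h1
    exact Nat.eq_of_mul_eq_mul_left Nat.card_pos h1
  obtain ⟨j, -, hj⟩ := (Nat.dvd_prime_pow h.prime).1 (hidx ▸ index_dvd_of_le hle)
  exact ⟨j, (card_orb N z).trans hj⟩

theorem WData.ne_bot (d : WData S W) (h : Min p G) : W ≠ ⊥ := fun e => by
  obtain ⟨z, hzS, hzo, hzc⟩ := exists_central h S
  have := d.central z hzS (Invol.mul_self hzo) hzc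
  rw [e, mem_bot] at this
  exact Invol.ne_one hzo this

theorem WData.normalizer_ne_top (d : WData S W) (h : Min p G) : normalizer (W : Set G) ≠ ⊤ :=
  h.normalizer_ne_top (d.ne_bot h) fun e => h.nsol (Group.isSolvable_of_comm fun a b =>
    d.comm a (e ▸ mem_top a) b (e ▸ mem_top b))

/-- `W` has order at least eight. -/
theorem WData.eight_le (d : WData S W) (h : Min p G) : 8 ≤ Nat.card W := by
  obtain ⟨z, hzS, hzo, hzc⟩ := exists_central h S
  have hzW := d.central z hzS (Invol.mul_self hzo) hzc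
  obtain ⟨j, hj⟩ := orbit_pow h (d.normalizer_ne_top h) d.sylow_le_normalizer hzS hzc
  obtain ⟨n, hn, hnz⟩ := exists_moved h d hzS hzo
  have hj0 : j ≠ 0 := fun e => by
    rw [e, pow_zero, Nat.card_eq_one_iff_unique] at hj
    haveI := hj.1
    have e2 := congrArg Subtype.val (Subsingleton.elim
      (⟨n * z * n⁻¹, n, hn, rfl⟩ : orb (normalizer (W : Set G)) z) ⟨z, 1, one_mem _, by simp⟩)
    exact hnz (mul_inv_eq_iff_eq_mul.1 e2)
  have hle : p + 1 ≤ Nat.card W := by
    have h1 : orb (normalizer (W : Set G)) z ⊆ (W : Set G) \ {1} := by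
      rintro _ ⟨m, hm, rfl⟩
      refine ⟨(mem_normalizer_iff.1 hm z).1 hzW, fun e => Invol.ne_one hzo ?_⟩
      rwa [Set.mem_singleton_iff, conj_eq_one_iff] at e
    have h2 := Set.ncard_le_ncard h1 (Set.toFinite _)
    rw [Set.ncard_sdiff_singleton_of_mem (one_mem W), ← Nat.card_coe_set_eq, hj] at h2
    have h3 : p ≤ p ^ j := Nat.le_self_pow hj0 p
    have h4 : Nat.card W = (W : Set G).ncard := (Nat.card_coe_set_eq _)
    have h5 : 0 < Nat.card W := Nat.card_pos
    omega
  obtain ⟨k, hk⟩ := IsPGroup.iff_card.1 d.isPGroup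
  have := h.five
  rw [hk] at hle ⊢
  rcases lt_or_ge k 3 with hlt | hge
  · have : 2 ^ k ≤ 2 ^ 2 := Nat.pow_le_pow_right two_pos (by omega)
    omega
  · exact Nat.pow_le_pow_right two_pos hge

end Cfsg.Agent.PNilCrit
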