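import Cfsg.Agent.S0217
import Cfsg.Agent.S1279
import Cfsg.Agent.Lib.PNilCrit.Orbit
import Cfsg.Agent.Lib.ClosedAbelian.Basic
import Cfsg.Agent.Lib.SESolv.Basic

/-!
The strongly embedded subgroup: the normaliser of `W` with the cores of the centralisers.
-/

set_option autoImplicit false
set_option linter.style.haveILetI false
set_option linter.unusedSectionVars false

namespace Cfsg.Agent.PNilCrit

open Subgroup
open ClosedAbelian (core)

universe u

variable {G : Type u} [Group G] [Finite G] {p : ℕ}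

/-- The cores of the centralisers of the non-identity elements of `W`. -/
def coreJoin (W : Subgroup G) : Subgroup G :=
  ⨆ a : {a : G // a ∈ W ∧ a ≠ 1}, core (centralizer ({(a : G)} : Set G))

/-- The candidate. -/
def locL (W : Subgroup G) : Subgroup G := normalizer (W : Set G) ⊔ coreJoin W

theorem normalizer_le_locL (W : Subgroup G) : normalizer (W : Set G) ≤ locL W := le_sup_left

variable {S : Sylow 2 G} {W : Subgroup G}

theorem coreJoin_odd (d : WData S W) (h : Min p G) : ¬ 2 ∣ Nat.card (coreJoin W) := by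
  haveI : Fact (Nat.Prime 2) := ⟨Nat.prime_two⟩
  have hea : Cfsg.IsElementaryAbelian 2 W :=
    ⟨.of_setLike_mul_comm d.comm, fun a ha => by rw [pow_two]; exact d.sq a ha⟩
  have h8 := d.eight_le h
  obtain ⟨⟨h1, h2, h3, h4⟩, h5⟩ := S1279.result 2 W hea (le_trans (by norm_num) h8)
    (fun a ha ha1 => h.solv _ (h.centralizer_ne_top ha1))
  exact (S0217.result W d.comm hea.2 (le_trans (by norm_num) h8) _ h1 h2 h3 h5 h4).1

theorem conj_coreJoin (W : Subgroup G) {n : G} (hn : n ∈ normalizer (W : Set G)) :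
    n ∈ normalizer (coreJoin W : Set G) := by
  refine mem_normalizer_iff_map_conj_eq.2 (eq_of_le_of_card_ge ?_
    (card_map_of_injective (MulAut.conj n).injective).ge)
  rw [coreJoin, Subgroup.map_iSup]
  refine iSup_le fun a => ?_
  refine le_trans ?_ (le_iSup (fun a : {a : G // a ∈ W ∧ a ≠ 1} => core (centralizer ({(a : G)} : Set G)))
    ⟨n * a.1 * n⁻¹, (mem_normalizer_iff.1 hn a.1).1 a.2.1, fun e => a.2.2 (conj_eq_one_iff.1 e)⟩)
  refine (ClosedAbelian.conj_core_le _ n).trans (le_of_eq (congrArg core ?_))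
  ext x
  rw [Invol.mem_conj_map, mem_centralizer_singleton_iff, mem_centralizer_singleton_iff]
  constructor
  · intro e
    calc x * (n * a.1 * n⁻¹) = n * ((n⁻¹ * x * n) * a.1) * n⁻¹ := by group
      _ = n * a.1 * n⁻¹ * x := by rw [e]; group
  · intro e
    calc n⁻¹ * x * n * a.1 = n⁻¹ * (x * (n * a.1 * n⁻¹)) * n := by group
      _ = a.1 * (n⁻¹ * x * n) := by rw [e]; group

theorem locL_ne_top (d : WData S W) (h : Min p G) : locL W ≠ ⊤ := by
  by_cases hX : coreJoin W = ⊥
  · rw [locL, hX, sup_bot_eq]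
    exact d.normalizer_ne_top h
  · have hXt : coreJoin W ≠ ⊤ := fun e => coreJoin_odd d h (by rw [e, card_top]; exact h.even.two_dvd)
    have hle : locL W ≤ normalizer (coreJoin W : Set G) :=
      sup_le (fun n hn => conj_coreJoin W hn) Subgroup.le_normalizer
    exact fun e => h.normalizer_ne_top hX hXt (top_le_iff.1 (e ▸ hle))

theorem core_le_locL {a : G} (ha : a ∈ W) (ha1 : a ≠ 1) : core (centralizer ({a} : Set G)) ≤ locL W :=
  le_trans (le_iSup (fun a : {a : G // a ∈ W ∧ a ≠ 1} => core (centralizer ({(a : G)} : Set G))) ⟨a, ha, ha1⟩)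
    le_sup_right

/-- A subgroup containing `U`, through the core and the normaliser of `U`. -/
theorem le_of_good {X U L : Subgroup G} [Group.IsSolvable X] (hU : IsPGroup 2 U) (hUX : U ≤ X)
    (hc : ∀ a ∈ U, ∀ b ∈ U, a * b = b * a)
    (hsc : ∀ T : Subgroup G, IsPGroup 2 T → U ≤ T → T ≤ X → ∀ x ∈ U, ∀ y ∈ X, y * x * y⁻¹ ∈ T → y * x * y⁻¹ ∈ U)
    (hcore : core X ≤ L) (hN : X ⊓ normalizer (U : Set G) ≤ L) : X ≤ L := by
  intro x hx
  have hsc' : SC (U.subgroupOf X) := by
    intro T hT hUT u hu y hy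
    refine mem_subgroupOf.2 (hsc (T.map X.subtype) (hT.map _)
      (fun w hw => ⟨⟨w, hUX hw⟩, hUT (mem_subgroupOf.2 hw), rfl⟩) (map_subtype_le T) u (mem_subgroupOf.1 hu) y y.2 ?_)
    exact ⟨_, hy, rfl⟩
  obtain ⟨o, ho, n, hn, e⟩ := good_of_closed (hU.comap_of_injective X.subtype X.subtype_injective)
    (fun a ha b hb => Subtype.ext (hc _ (mem_subgroupOf.1 ha) _ (mem_subgroupOf.1 hb))) hsc' (⟨x, hx⟩ : X)
  have e' : x = (o : G) * n := congrArg Subtype.val e
  rw [e']
  refine mul_mem (hcore ⟨o, ho, rfl⟩) (hN ⟨n.2, mem_normalizer_iff.2 fun w => ⟨fun hw => ?_, fun hw => ?_⟩⟩)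
  · exact (mem_normalizer_iff.1 hn (⟨w, hUX hw⟩ : X)).1 hw
  · have hw2 : w ∈ X := by
      have := mul_mem (mul_mem (inv_mem n.2) (hUX hw)) n.2
      rwa [show (n : G)⁻¹ * ((n : G) * w * (n : G)⁻¹) * n = w by group] at this
    exact (mem_normalizer_iff.1 hn (⟨w, hw2⟩ : X)).2 hw

theorem cent_le (d : WData S W) (h : Min p G) {t : G} (ht : t ∈ W) (ht1 : t ≠ 1) :
    centralizer ({t} : Set G) ≤ locL W := by
  haveI := h.solv _ (h.centralizer_ne_top ht1)
  exact le_of_good d.isPGroup (fun w hw => mem_centralizer_singleton_iff.2 (d.comm w hw t ht))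
    d.comm (fun T hT hWT _ x hx y _ hy => d.sc T hT hWT x hx y hy) (core_le_locL ht ht1)
    (inf_le_right.trans (normalizer_le_locL W))

theorem normalizer_sub_le (d : WData S W) (h : Min p G) {U : Subgroup G} (hU : U ≤ W) (hU1 : U ≠ ⊥) :
    normalizer (U : Set G) ≤ locL W := by
  intro g hg
  obtain ⟨m, hm, hma⟩ := d.control (U : Set G) (fun a ha => d.le (hU ha)) g
    (fun a ha => d.le (hU ((mem_normalizer_iff.1 hg a).1 ha)))
  obtain ⟨u, hu, hu1⟩ := U.bot_or_exists_ne_one.resolve_left hU1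
  have hc : m⁻¹ * g ∈ centralizer ({u} : Set G) := mem_centralizer_singleton_iff.2 (by
    calc m⁻¹ * g * u = m⁻¹ * (g * u * g⁻¹) * g := by group
      _ = u * (m⁻¹ * g) := by rw [hma u hu]; group)
  simpa using mul_mem (normalizer_le_locL W hm) (cent_le d h (hU hu) hu1 hc)

/-- The centraliser in `W` of an involution of `S` has at least four elements. -/
theorem four_le_fixed (d : WData S W) (h : Min p G) {u : G} (hu : u ∈ normalizer (W : Set G))
    (hu2 : ∀ w ∈ W, u * (u * w * u⁻¹) * u⁻¹ = w) : 4 ≤ Nat.card ↥(W ⊓ centralizer ({u} : Set G)) := by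
  set C := W ⊓ centralizer ({u} : Set G) with hC
  let φ : W →* C := MonoidHom.mk'
    (fun w => ⟨(w : G) * (u * w * u⁻¹), by
      have hw' : u * (w : G) * u⁻¹ ∈ W := (mem_normalizer_iff.1 hu _).1 w.2
      refine ⟨mul_mem w.2 hw', mem_centralizer_singleton_iff.2 ?_⟩
      have e : u * ((w : G) * (u * w * u⁻¹)) * u⁻¹ = (w : G) * (u * w * u⁻¹) := by
        rw [← conj_mul, hu2 w w.2, d.comm _ hw' _ w.2]
      exact (mul_inv_eq_iff_eq_mul.1 e).symm⟩)
    fun a b => Subtype.ext (by
      show (a : G) * b * (u * (a * b) * u⁻¹) = (a : G) * (u * a * u⁻¹) * ((b : G) * (u * b * u⁻¹))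
      rw [← conj_mul]
      have e := d.comm _ b.2 _ ((mem_normalizer_iff.1 hu _).1 a.2)
      calc (a : G) * b * ((u * a * u⁻¹) * (u * b * u⁻¹)) = a * (b * (u * a * u⁻¹)) * (u * b * u⁻¹) := by group
        _ = _ := by rw [e]; group)
  have hker : φ.ker ≤ C.subgroupOf W := by
    intro w hw
    have e : (w : G) * (u * w * u⁻¹) = 1 := congrArg Subtype.val (MonoidHom.mem_ker.1 hw)
    rw [mul_eq_one_iff_inv_eq, inv_eq_of_mul_eq_one_right (d.sq w w.2)] at e
    exact mem_subgroupOf.2 ⟨w.2, mem_centralizer_singleton_iff.2 (eq_mul_inv_iff_mul_eq.1 e)⟩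
  have h1 := φ.ker.card_mul_index
  rw [index_ker] at h1
  have h2 : Nat.card φ.ker ≤ Nat.card C :=
    (card_le_of_le hker).trans (le_of_eq (Nat.card_congr (subgroupOfEquivOfLe inf_le_left).toEquiv))
  have h3 : Nat.card φ.range ≤ Nat.card C := Nat.card_le_card_of_injective _ Subtype.val_injective
  have h4 := d.eight_le h
  obtain ⟨k, hk⟩ := IsPGroup.iff_card.1 (d.isPGroup.to_le (inf_le_left : C ≤ W))
  have h5 : 8 ≤ Nat.card C * Nat.card C := h4.trans (h1 ▸ Nat.mul_le_mul h2 h3)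
  rcases lt_or_ge k 2 with hlt | hge
  · have : 2 ^ k ≤ 2 ^ 1 := Nat.pow_le_pow_right two_pos (by omega)
    rw [← hk] at this
    nlinarith
  · rw [hk]; exact Nat.pow_le_pow_right (n := 2) two_pos hge

/-- The Sylow centraliser case. -/
theorem cent_top_le (d : WData S W) (h : Min p G) {u : G} (huS : u ∈ (S : Subgroup G)) (huo : orderOf u = 2)
    (hfull : ∀ R : Subgroup G, IsPGroup 2 R → R ≤ centralizer ({u} : Set G) →
      ∃ c ∈ centralizer ({u} : Set G), ∀ r ∈ R, c * r * c⁻¹ ∈ (S : Subgroup G)) :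
    centralizer ({u} : Set G) ≤ locL W := by
  set X := centralizer ({u} : Set G) with hX
  haveI := h.solv X (h.centralizer_ne_top (Invol.ne_one huo))
  set U := W ⊓ X with hU
  have huN : u ∈ normalizer (W : Set G) := d.sylow_le_normalizer huS
  have h4 : 4 ≤ Nat.card U := four_le_fixed d h huN fun w _ => by
    rw [Invol.inv_self huo]
    calc u * (u * w * u) * u = (u * u) * w * (u * u) := by group
      _ = w := by rw [Invol.mul_self huo, one_mul, mul_one]
  have hU4 : SEBrick.IsFour U :=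
    ⟨⟨.of_setLike_mul_comm fun a ha b hb => d.comm a ha.1 b hb.1, fun a ha => by rw [pow_two]; exact d.sq a ha.1⟩, h4⟩
  refine le_of_good (U := U) (d.isPGroup.to_le inf_le_left) inf_le_right (fun a ha b hb => d.comm a ha.1 b hb.1)
    ?_ ?_ (inf_le_right.trans (normalizer_sub_le d h inf_le_left fun e => ?_))
  · intro T hT hUT hTX x hx y hy hyT
    obtain ⟨c, hc, hcS⟩ := hfull T hT hTX
    have hcn : c ∈ normalizer (U : Set G) := by
      refine mem_normalizer_iff_map_conj_eq.2 (eq_of_le_of_card_ge ?_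
        (card_map_of_injective (MulAut.conj c).injective).ge)
      rintro _ ⟨w, hw, rfl⟩
      exact ⟨d.closed hw.1 (hcS w (hUT hw)), X.mul_mem (X.mul_mem hc hw.2) (X.inv_mem hc)⟩
    refine (mem_normalizer_iff.1 hcn _).2 ⟨?_, X.mul_mem (X.mul_mem hc (X.mul_mem (X.mul_mem hy hx.2) (X.inv_mem hy))) (X.inv_mem hc)⟩
    have h1 := hcS _ hyT
    rw [show c * (y * x * y⁻¹) * c⁻¹ = (c * y) * x * (c * y)⁻¹ by group] at h1 ⊢
    exact d.closed hx.1 h1
  · haveI := hU4.1.1
    obtain ⟨k, hk⟩ := IsPGroup.iff_card.1 (d.isPGroup.to_le (inf_le_left : U ≤ W))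
    rw [← CoprimeAct.generated_by_centralizers (K := core X) hU4.not_isCyclic
      ((inf_le_right : U ≤ X).trans (ClosedAbelian.core_normalized X))
      (by rw [hk]; exact ((Nat.prime_two.coprime_iff_not_dvd).2 (ClosedAbelian.core_odd X)).pow_left k)]
    exact iSup₂_le fun a ha => inf_le_right.trans (cent_le d h ha.1.1 ha.2)
  · rw [e, card_bot] at h4; omega

theorem cent_invol_le (d : WData S W) (h : Min p G) {u : G} (huS : u ∈ (S : Subgroup G)) (huo : orderOf u = 2) :
    centralizer ({u} : Set G) ≤ locL W := by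
  haveI : Fact (Nat.Prime 2) := ⟨Nat.prime_two⟩
  obtain ⟨T⟩ : Nonempty (Sylow 2 ↥(centralizer ({u} : Set G))) := inferInstance
  set X := centralizer ({u} : Set G) with hX
  have hT : IsPGroup 2 ((T : Subgroup X).map X.subtype) := T.2.map _
  obtain ⟨P, hP⟩ := hT.exists_le_sylow
  obtain ⟨g, hg⟩ := MulAction.exists_smul_eq G P S
  have huT : u ∈ (T : Subgroup X).map X.subtype := by
    refine ⟨⟨u, mem_centralizer_singleton_iff.2 rfl⟩, ?_, rfl⟩
    haveI : (zpowers (⟨u, mem_centralizer_singleton_iff.2 rfl⟩ : X)).Normal := ⟨fun a ha b => by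
      obtain ⟨i, rfl⟩ := mem_zpowers_iff.1 ha
      rw [← conj_zpow]
      refine zpow_mem ?_ i
      convert mem_zpowers (⟨u, mem_centralizer_singleton_iff.2 rfl⟩ : X) using 1
      exact Subtype.ext (mul_inv_eq_iff_eq_mul.2 (mem_centralizer_singleton_iff.1 b.2))⟩
    exact IsPGroup.le_sylow_of_normal (IsPGroup.of_card (n := 1) (by
      rw [Nat.card_zpowers, Subgroup.orderOf_mk, huo, pow_one])) T (mem_zpowers _)
  have hgS : ∀ t ∈ (T : Subgroup X).map X.subtype, g * t * g⁻¹ ∈ (S : Subgroup G) := fun t ht => by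
    rw [← hg, Sylow.coe_subgroup_smul]
    exact ⟨t, hP ht, rfl⟩
  set u' := g * u * g⁻¹ with hu'
  have hu'S : u' ∈ (S : Subgroup G) := hgS u huT
  have hconj : ∀ x, x ∈ centralizer ({u'} : Set G) ↔ g⁻¹ * x * g ∈ X := fun x => by
    rw [hX, mem_centralizer_singleton_iff, mem_centralizer_singleton_iff, hu']
    constructor
    · intro e
      calc g⁻¹ * x * g * u = g⁻¹ * (x * (g * u * g⁻¹)) * g := by group
        _ = u * (g⁻¹ * x * g) := by rw [e]; group
    · intro e
      calc x * (g * u * g⁻¹) = g * ((g⁻¹ * x * g) * u) * g⁻¹ := by group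
        _ = g * u * g⁻¹ * x := by rw [e]; group
  have hu'le := cent_top_le d h hu'S ((Invol.order_conj g u).trans huo) fun R hR hRX => by
    obtain ⟨c, hc, hcle⟩ := LESylow.exists_conj_le_of_le (A := R.map (MulAut.conj g⁻¹).toMonoidHom)
      (by rintro _ ⟨r, hr, rfl⟩; simpa using (hconj r).1 (hRX hr)) (hR.map _) T
    refine ⟨g * c * g⁻¹, (hconj _).2 (by simpa [mul_assoc] using hc), fun r hr => ?_⟩
    have := hgS _ (hcle ⟨_, ⟨r, hr, rfl⟩, rfl⟩)
    simpa [mul_assoc] using this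
  obtain ⟨n, hn, hnu⟩ := d.control {u} (Set.singleton_subset_iff.2 huS) g
    (fun a ha => by rw [Set.mem_singleton_iff.1 ha]; exact hu'S)
  intro x hx
  have h1 : n * x * n⁻¹ ∈ centralizer ({u'} : Set G) := mem_centralizer_singleton_iff.2 (by
    rw [hu', hnu u rfl]
    calc n * x * n⁻¹ * (n * u * n⁻¹) = n * (x * u) * n⁻¹ := by group
      _ = n * u * n⁻¹ * (n * x * n⁻¹) := by rw [mem_centralizer_singleton_iff.1 hx]; group)
  have h2 := mul_mem (mul_mem (inv_mem (normalizer_le_locL W hn)) (hu'le h1)) (normalizer_le_locL W hn)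
  rwa [show n⁻¹ * (n * x * n⁻¹) * n = x by group] at h2

theorem sylow_le_locL (d : WData S W) : (S : Subgroup G) ≤ locL W :=
  d.sylow_le_normalizer.trans (normalizer_le_locL W)

theorem stronglyEmbedded (d : WData S W) (h : Min p G) : Cfsg.IsStronglyEmbedded (locL W) := by
  haveI : Fact (Nat.Prime 2) := ⟨Nat.prime_two⟩
  obtain ⟨z, hzS, hzo, -⟩ := exists_central h S
  refine Invol.se_of_centralizers (locL_ne_top d h) (S.subtype (sylow_le_locL d))
    (Invol.even_of_invol_mem hzo (sylow_le_locL d hzS)) ?_ fun t ht hto => ?_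
  · rw [Sylow.coe_subtype, map_subgroupOf_eq_of_le (sylow_le_locL d)]
    exact d.normalizer_sylow_le.trans (normalizer_le_locL W)
  · obtain ⟨c, hc, hcle⟩ := LESylow.exists_conj_le_of_le (zpowers_le.2 ht)
      (IsPGroup.of_card (n := 1) (by rw [Nat.card_zpowers, hto, pow_one])) (S.subtype (sylow_le_locL d))
    rw [Sylow.coe_subtype, map_subgroupOf_eq_of_le (sylow_le_locL d)] at hcle
    have h1 := cent_invol_le d h (hcle ⟨t, mem_zpowers t, rfl⟩)
      ((Invol.order_conj c t).trans hto)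
    intro x hx
    have hx' : c * x * c⁻¹ ∈ centralizer ({c * t * c⁻¹} : Set G) := mem_centralizer_singleton_iff.2 (by
      calc c * x * c⁻¹ * (c * t * c⁻¹) = c * (x * t) * c⁻¹ := by group
        _ = c * t * c⁻¹ * (c * x * c⁻¹) := by rw [mem_centralizer_singleton_iff.1 hx]; group)
    have h2 := mul_mem (mul_mem (inv_mem hc) (h1 hx')) hc
    rwa [show c⁻¹ * (c * x * c⁻¹) * c = x by group] at h2

end Cfsg.Agent.PNilCrit
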