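import Cfsg.Agent.Lib.SESolv.Basic
import Cfsg.Agent.Lib.Solvable.Fitting
import Cfsg.Agent.Lib.Transfer.Basic
import Cfsg.Agent.Lib.LocalEven.SylowAux

/-!
A solvable subgroup holding a four-group of a strongly embedded subgroup lies in it.
-/

set_option autoImplicit false
set_option linter.style.haveILetI false
set_option linter.unusedSectionVars false

namespace Cfsg.Agent.PNilCrit

open Subgroup

universe u

/-- A solvable group has no strongly embedded subgroup with a four-group. -/
theorem no_se_solvable {K : Type u} [Group K] [Finite K] [Group.IsSolvable K] {H E : Subgroup K}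
    (hH : Cfsg.IsStronglyEmbedded H) (hE : SEBrick.IsFour E) (hEH : E ≤ H) : False := by
  haveI : Fact (Nat.Prime 2) := ⟨Nat.prime_two⟩
  set O := Cfsg.oddCore K with hOdef
  haveI : O.Normal := FittingCores.pPrimeCore_normal 2
  have hOH : O ≤ H := SESolv.le_of_four hH SEBrick.oddCore_odd hE hEH le_normalizer_of_normal
  obtain ⟨P, hP⟩ := hE.isPGroup.exists_le_sylow
  obtain ⟨e, he, he1⟩ := SESolv.IsFour.exists_ne hE
  have heo := hE.order he he1
  have hPH : (P : Subgroup K) ≤ H := by
    refine le_trans (LESylow.eq_of_normalizer_inf_le (R := (P : Subgroup K) ⊓ H) P.2 inf_le_left ?_).ge inf_le_right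
    intro y hy
    exact ⟨(mem_inf.1 hy).1, Invol.se_mem_of_conj hH heo (hEH he)
      ((mem_normalizer_iff.1 (mem_inf.1 hy).2 e).1 ⟨hP he, hEH he⟩).2⟩
  set f := QuotientGroup.mk' O with hf
  have hf' : Function.Surjective f := QuotientGroup.mk'_surjective O
  haveI := Cfsg.pCore_normal 2 (K ⧸ O)
  set B := (Cfsg.pCore 2 (K ⧸ O)).comap f with hBdef
  have hB : B.Normal := (Cfsg.pCore_normal 2 (K ⧸ O)).comap f
  have hBH : B ≤ H := by
    intro b hb
    obtain ⟨s, hs, e'⟩ : f b ∈ ((P.mapSurjective hf' : Sylow 2 (K ⧸ O)) : Subgroup (K ⧸ O)) :=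
      PBasic.pCore_le_sylow _ hb
    have h1 : b * s⁻¹ ∈ O := by
      rw [← QuotientGroup.eq_one_iff (N := O)]
      show f (b * s⁻¹) = 1
      rw [map_mul, map_inv, e', mul_inv_cancel]
    simpa using mul_mem (hOH h1) (hPH hs)
  have hBev : Even (Nat.card B) := by
    by_contra hodd
    have hBO : B ≤ O := FittingCores.le_pPrimeCore hB (Nat.coprime_two_right.2 (Nat.not_even_iff_odd.1 hodd))
    have hbot : Cfsg.pCore 2 (K ⧸ O) = ⊥ := by
      rw [eq_bot_iff]
      intro q hq
      obtain ⟨b, rfl⟩ := hf' q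
      exact mem_bot.2 ((QuotientGroup.eq_one_iff b).2 (hBO hq))
    have htop : ∀ k : K, k ∈ O := fun k => by
      have h1 : f k ∈ centralizer (Cfsg.pCore 2 (K ⧸ O) : Set (K ⧸ O)) := mem_centralizer_iff.2 fun q hq => by
        rw [hbot, SetLike.mem_coe, mem_bot] at hq
        simp [hq]
      have h2 := FittingCores.centralizer_pCore_le Nat.prime_two (PBasic.pPrimeCore_quotient_pPrimeCore 2 K) h1
      rw [hbot, mem_bot] at h2
      exact (QuotientGroup.eq_one_iff k).1 h2
    exact hH.1 (eq_top_iff.2 fun k _ => hOH (htop k))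
  obtain ⟨s, hs, hso⟩ := Invol.exists_invol hBev
  exact hH.1 (eq_top_iff.2 fun g _ => Invol.se_mem_of_conj hH hso (hBH hs) (hBH (hB.conj_mem s hs g)))

/-- Solvable subgroups holding a four-group of `L` lie in `L`. -/
theorem le_of_four_solvable {G : Type u} [Group G] [Finite G] {L M E : Subgroup G}
    (hL : Cfsg.IsStronglyEmbedded L) [Group.IsSolvable M] (hE : SEBrick.IsFour E) (hEL : E ≤ L) (hEM : E ≤ M) :
    M ≤ L := by
  by_contra hcon
  obtain ⟨e, he, he1⟩ := SESolv.IsFour.exists_ne hE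
  refine no_se_solvable (SESolv.se_sub hL (hE.order he he1) (hEL he) (hEM he) hcon)
    (E := E.subgroupOf M) ⟨⟨.of_setLike_mul_comm fun a ha b hb => Subtype.ext (hE.comm ha hb), fun a ha =>
      Subtype.ext (by simpa using hE.1.2 _ ha)⟩, ?_⟩ fun x hx => hEL hx
  rw [Nat.card_congr (subgroupOfEquivOfLe hEM).toEquiv]
  exact hE.2

end Cfsg.Agent.PNilCrit
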