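import Cfsg.Agent.S1927
import Cfsg.Agent.S0215
import Cfsg.Agent.Lib.PNilCrit.Basic
import Cfsg.Agent.Lib.PNilCrit.Closed

/-!
The strongly closed elementary abelian subgroup.
-/

set_option autoImplicit false
set_option linter.style.haveILetI false
set_option linter.unusedSectionVars false

namespace Cfsg.Agent.PNilCrit

open Subgroup

universe u

variable {G : Type u} [Group G] [Finite G] {p : ℕ}

/-- The properties of `W` in a Sylow 2-subgroup `S`. -/
structure WData (S : Sylow 2 G) (W : Subgroup G) : Prop where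
  le : W ≤ (S : Subgroup G)
  comm : ∀ a ∈ W, ∀ b ∈ W, a * b = b * a
  sq : ∀ a ∈ W, a * a = 1
  central : ∀ z ∈ (S : Subgroup G), z * z = 1 → (∀ s ∈ (S : Subgroup G), s * z = z * s) → z ∈ W
  control : ∀ A : Set G, A ⊆ (S : Subgroup G) → ∀ g : G, (∀ a ∈ A, g * a * g⁻¹ ∈ (S : Subgroup G)) →
    ∃ n ∈ normalizer (W : Set G), ∀ a ∈ A, g * a * g⁻¹ = n * a * n⁻¹

theorem exists_wData (h : Min p G) (S : Sylow 2 G) : ∃ W : Subgroup G, WData S W := by
  obtain ⟨W, -, hz, hle, hctl⟩ := S1927.result h.s4_free S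
  set Z := Cfsg.centerThompsonOf 2 (S : Subgroup G) with hZ
  have hZc : ∀ a ∈ Z, ∀ b ∈ Z, a * b = b * a := fun a ha b hb =>
    (mem_centralizer_iff.1 hb.2 a ha.1)
  have hsq : ∀ a ∈ Cfsg.omegaOne 2 Z, a * a = 1 ∧ a ∈ Z := by
    intro a ha
    induction ha using closure_induction with
    | mem x hx => exact ⟨by rw [← pow_two]; exact hx.2, hx.1⟩
    | one => exact ⟨mul_one 1, one_mem _⟩
    | mul x y _ _ hx hy =>
      refine ⟨?_, mul_mem hx.2 hy.2⟩
      calc x * y * (x * y) = x * (y * x) * y := by group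
        _ = (x * x) * (y * y) := by rw [hZc y hy.2 x hx.2]; group
        _ = 1 := by rw [hx.1, hy.1, mul_one]
    | inv x _ hx => exact ⟨by rw [← mul_inv_rev, hx.1, inv_one], inv_mem hx.2⟩
  refine ⟨W.map (S : Subgroup G).subtype, map_subtype_le W, fun a ha b hb => hZc a (hsq a (hle ha)).2 b (hsq b (hle hb)).2,
    fun a ha => (hsq a (hle ha)).1, fun z hz1 hz2 hzc => hz (subset_closure ⟨⟨⟨z, hz1⟩, ?_, rfl⟩, by rw [pow_two, hz2]⟩),
    fun A hA g hg => ?_⟩
  · exact mem_center_iff.2 fun s => Subtype.ext (hzc s s.2)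
  · obtain ⟨n, hn, hna⟩ := (hctl A hA).2 g (by rintro _ ⟨a, ha, rfl⟩; exact hg a ha)
    exact ⟨n, hn, hna⟩

namespace WData

variable {S : Sylow 2 G} {W : Subgroup G} (d : WData S W)
include d

theorem isPGroup : IsPGroup 2 W := S.2.to_le d.le

theorem order {a : G} (ha : a ∈ W) (h1 : a ≠ 1) : orderOf a = 2 := Invol.order_two_of_sq (d.sq a ha) h1

theorem closed {x : G} (hx : x ∈ W) {g : G} (hg : g * x * g⁻¹ ∈ (S : Subgroup G)) : g * x * g⁻¹ ∈ W := by
  obtain ⟨n, hn, hna⟩ := d.control {x} (Set.singleton_subset_iff.2 (d.le hx)) g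
    (fun a ha => by rw [Set.mem_singleton_iff.1 ha]; exact hg)
  rw [hna x rfl]
  exact (mem_normalizer_iff.1 hn x).1 hx

theorem sc : SC W := by
  intro T hT hWT x hx y hy
  obtain ⟨P, hP⟩ := hT.exists_le_sylow
  haveI : Fact (Nat.Prime 2) := ⟨Nat.prime_two⟩
  obtain ⟨g, hg⟩ := MulAction.exists_smul_eq G P S
  have hgT : ∀ t ∈ T, g * t * g⁻¹ ∈ (S : Subgroup G) := fun t ht => by
    rw [← hg, Sylow.coe_subgroup_smul]
    exact ⟨t, hP ht, rfl⟩
  have hgn : g ∈ normalizer (W : Set G) := by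
    refine mem_normalizer_iff_map_conj_eq.2 (eq_of_le_of_card_ge ?_
      (card_map_of_injective (MulAut.conj g).injective).ge)
    rintro _ ⟨w, hw, rfl⟩
    exact d.closed hw (hgT w (hWT hw))
  refine (mem_normalizer_iff.1 hgn _).2 ?_
  have h1 := hgT _ hy
  have h2 : g * (y * x * y⁻¹) * g⁻¹ = (g * y) * x * (g * y)⁻¹ := by group
  rw [h2] at h1 ⊢
  exact d.closed hx h1

theorem normalizer_sylow_le : normalizer ((S : Subgroup G) : Set G) ≤ normalizer (W : Set G) := fun g hg => by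
  refine mem_normalizer_iff_map_conj_eq.2 (eq_of_le_of_card_ge ?_
    (card_map_of_injective (MulAut.conj g).injective).ge)
  rintro _ ⟨w, hw, rfl⟩
  exact d.closed hw ((mem_normalizer_iff.1 hg w).1 (d.le hw))

theorem sylow_le_normalizer : (S : Subgroup G) ≤ normalizer (W : Set G) :=
  Subgroup.le_normalizer.trans d.normalizer_sylow_le

end WData

/-- A central involution of a Sylow 2-subgroup. -/
theorem exists_central (h : Min p G) (S : Sylow 2 G) :
    ∃ z ∈ (S : Subgroup G), orderOf z = 2 ∧ ∀ s ∈ (S : Subgroup G), s * z = z * s := by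
  haveI : Fact (Nat.Prime 2) := ⟨Nat.prime_two⟩
  haveI : Nontrivial (S : Subgroup G) := by
    rw [nontrivial_iff_ne_bot]
    exact S.ne_bot_of_dvd_card h.even.two_dvd
  haveI := IsPGroup.center_nontrivial S.2
  obtain ⟨k, hk⟩ := IsPGroup.iff_card.1 (S.2.to_subgroup (center (S : Subgroup G)))
  have hk0 : k ≠ 0 := fun e => by
    rw [e, pow_zero] at hk
    exact absurd hk Finite.one_lt_card.ne'
  obtain ⟨z, hz⟩ := exists_prime_orderOf_dvd_card' (G := center (S : Subgroup G)) 2 (hk ▸ dvd_pow_self 2 hk0)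
  refine ⟨((z : (S : Subgroup G)) : G), (z : (S : Subgroup G)).2, by rw [Subgroup.orderOf_coe, Subgroup.orderOf_coe, hz],
    fun s hs => congrArg Subtype.val (mem_center_iff.1 z.2 ⟨s, hs⟩)⟩

theorem exists_moved (h : Min p G) {S : Sylow 2 G} {W : Subgroup G} (d : WData S W) {z : G}
    (hz : z ∈ (S : Subgroup G)) (hzo : orderOf z = 2) :
    ∃ n ∈ normalizer (W : Set G), n * z ≠ z * n := by
  by_contra hcon
  push Not at hcon
  obtain ⟨N, hN, hNo, hcomm⟩ := S0215.result S z hzo hz fun g hg => by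
    obtain ⟨n, hn, hna⟩ := d.control {z} (Set.singleton_subset_iff.2 hz) g
      (fun a ha => by rw [Set.mem_singleton_iff.1 ha]; exact hg)
    rw [hna z rfl, hcon n hn, mul_inv_cancel_right]
  haveI := hN
  have hNb : N = ⊥ := h.eq_bot_of_normal fun e => by
    rw [e, card_top] at hNo
    exact (Nat.not_even_iff_odd.2 hNo) h.even
  refine Invol.ne_one hzo ?_
  have : z ∈ center G := mem_center_iff.2 fun g => by
    have h1 := hcomm g
    rw [hNb, mem_bot, mul_inv_eq_one, mul_inv_eq_iff_eq_mul] at h1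
    exact h1.symm
  rwa [h.center_eq_bot, mem_bot] at this

end Cfsg.Agent.PNilCrit
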