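import Cfsg.Agent.Lib.SEBender.Outcome
import Cfsg.Agent.Lib.Suzuki.Minor
import Cfsg.Agent.Lib.CN.Basic
import Cfsg.Agent.S0333

/-!
Each of the groups in Bender's list has, for every prime `p > 3`, a non-nilpotent subgroup of order prime to `p`:
a symmetric group of degree 3 in `L₂(2ⁿ)` and `U₃(2ⁿ)`, the normaliser of a torus in the Suzuki groups.
-/

set_option autoImplicit false
set_option linter.style.haveILetI false

namespace Cfsg.Agent.PNilCrit

open Matrix hiding zpow_neg zpow_add inv_zpow mul_inv_rev one_zpow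
open scoped MatrixGroups

universe u

variable {G : Type u} [Group G]

/-- The conclusion. -/
def HasBad (p : ℕ) (G : Type u) [Group G] : Prop :=
  ∃ H : Subgroup G, (Nat.card H).Coprime p ∧ ¬ Group.IsNilpotent H

theorem HasBad.of_injective {p : ℕ} {K : Type*} [Group K] (f : K →* G) (hf : Function.Injective f)
    {H : Subgroup K} (hc : (Nat.card H).Coprime p) (hn : ¬ Group.IsNilpotent H) : HasBad p G := by
  refine ⟨H.map f, ?_, fun h => hn ?_⟩
  · rwa [Subgroup.card_map_of_injective hf]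
  · exact Group.isNilpotent_congr (H.equivMapOfInjective f hf) |>.2 h

/-- A symmetric group of degree three. -/
theorem hasBad_of_inverted [Finite G] {p : ℕ} (hp : p.Prime) (hp3 : 3 < p) {a b : G} (ha : a ^ 3 = 1)
    (ha1 : a ≠ 1) (hb : b * b = 1) (hab : b * a * b⁻¹ = a⁻¹) : HasBad p G := by
  have key : ∀ i : ℤ, b * a ^ i = a ^ (-i) * b := fun i => by
    rw [← mul_inv_eq_iff_eq_mul, ← conj_zpow, hab, zpow_neg, inv_zpow]
  let D : Subgroup G :=
    { carrier := {g | ∃ i : ℤ, g = a ^ i ∨ g = a ^ i * b}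
      one_mem' := ⟨0, Or.inl (zpow_zero a).symm⟩
      mul_mem' := by
        rintro x y ⟨i, rfl | rfl⟩ ⟨j, rfl | rfl⟩
        · exact ⟨i + j, Or.inl (zpow_add a i j).symm⟩
        · exact ⟨i + j, Or.inr (by rw [← mul_assoc, zpow_add])⟩
        · exact ⟨i - j, Or.inr (by rw [mul_assoc, key, ← mul_assoc, ← zpow_add, sub_eq_add_neg])⟩
        · refine ⟨i - j, Or.inl ?_⟩
          rw [mul_assoc, ← mul_assoc b, key, mul_assoc, hb, mul_one, ← zpow_add, sub_eq_add_neg]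
      inv_mem' := by
        rintro x ⟨i, rfl | rfl⟩
        · exact ⟨-i, Or.inl (zpow_neg a i).symm⟩
        · refine ⟨i, Or.inr ?_⟩
          rw [mul_inv_rev, inv_eq_of_mul_eq_one_right hb, ← zpow_neg, key, neg_neg] }
  have h6 : ∀ g ∈ D, g ^ 6 = 1 := by
    rintro g ⟨i, rfl | rfl⟩
    · rw [← zpow_natCast, zpow_comm, zpow_natCast, show 6 = 3 * 2 from rfl, pow_mul, ha, one_pow, one_zpow]
    · have : (a ^ i * b) ^ 2 = 1 := by
        rw [pow_two, mul_assoc, ← mul_assoc b, key, mul_assoc, hb, mul_one, ← zpow_add, add_neg_cancel, zpow_zero]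
      rw [show 6 = 2 * 3 from rfl, pow_mul, this, one_pow]
  refine ⟨D, ?_, fun hn => ha1 ?_⟩
  · refine ((Nat.Prime.coprime_iff_not_dvd hp).2 fun hd => ?_).symm
    haveI := Fact.mk hp
    obtain ⟨g, hg⟩ := exists_prime_orderOf_dvd_card' (G := D) p hd
    have h : orderOf g ∣ 6 := orderOf_dvd_of_pow_eq_one (Subtype.ext (h6 g g.2))
    rw [hg] at h
    have := Nat.le_of_dvd (by norm_num) h
    interval_cases p <;> norm_num at *
  · have hc : Commute b a := CN.commute_of_coprime hn ⟨0, Or.inr (by simp)⟩ ⟨1, Or.inl (zpow_one a).symm⟩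
      ((Nat.Coprime.coprime_dvd_left (orderOf_dvd_of_pow_eq_one (by rw [pow_two, hb]))
        (Nat.Coprime.coprime_dvd_right (orderOf_dvd_of_pow_eq_one ha) (by norm_num : Nat.Coprime 2 3))))
    rw [hc.eq, mul_inv_cancel_right] at hab
    calc a = a ^ 3 := by rw [pow_succ, pow_two]; nth_rw 2 [hab]; group
      _ = 1 := ha

/-- The same after a central quotient. -/
theorem hasBad_quotient {p : ℕ} (hp : p.Prime) (hp3 : 3 < p) {K : Type*} [Group K] [Finite K] {a b : K}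
    (ha : a ^ 3 = 1) (ha1 : a ≠ 1) (hb : b * b = 1) (hab : b * a * b⁻¹ = a⁻¹)
    (e : G ≃* K ⧸ Subgroup.center K) : HasBad p G := by
  have hne : (a : K ⧸ Subgroup.center K) ≠ 1 := fun h => ha1 <| by
    rw [QuotientGroup.eq_one_iff, Subgroup.mem_center_iff] at h
    rw [h b, mul_inv_cancel_right] at hab
    calc a = a ^ 3 := by rw [pow_succ, pow_two]; nth_rw 2 [hab]; group
      _ = 1 := ha
  obtain ⟨H, hc, hn⟩ := hasBad_of_inverted (G := K ⧸ Subgroup.center K) hp hp3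
    (a := (a : K ⧸ Subgroup.center K)) (b := (b : K ⧸ Subgroup.center K))
    (by rw [← QuotientGroup.mk_pow, ha]; rfl) hne (by rw [← QuotientGroup.mk_mul, hb]; rfl)
    (by rw [← QuotientGroup.mk_inv, ← QuotientGroup.mk_mul, ← QuotientGroup.mk_mul, hab]; rfl)
  exact HasBad.of_injective e.symm.toMonoidHom e.symm.injective hc hn

theorem hasBad_psl {p : ℕ} (hp : p.Prime) (hp3 : 3 < p) {F : Type*} [Field F] [Finite F] [CharP F 2]
    (e : G ≃* Matrix.ProjectiveSpecialLinearGroup (Fin 2) F) : HasBad p G := by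
  let a : SL(2, F) := ⟨!![0, 1; 1, 1], by simp [Matrix.det_fin_two, CharTwo.neg_eq]⟩
  let b : SL(2, F) := ⟨!![0, 1; 1, 0], by simp [Matrix.det_fin_two, CharTwo.neg_eq]⟩
  have h2 : (1 : F) + 1 = 0 := CharTwo.add_self_eq_zero 1
  refine hasBad_quotient hp hp3 (a := a) (b := b) ?_ ?_ ?_ ?_ e
  · apply Subtype.ext
    show (!![0, 1; 1, 1] : Matrix (Fin 2) (Fin 2) F) ^ 3 = 1
    rw [pow_succ, pow_two]
    ext i j
    fin_cases i <;> fin_cases j <;> simp [Matrix.mul_apply, Fin.sum_univ_two, h2]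
  · intro h
    have := congrArg (fun m : SL(2, F) => (m : Matrix (Fin 2) (Fin 2) F) 0 0) h
    simp [a] at this
  · apply Subtype.ext
    show (!![0, 1; 1, 0] : Matrix (Fin 2) (Fin 2) F) * !![0, 1; 1, 0] = 1
    ext i j
    fin_cases i <;> fin_cases j <;> simp [Matrix.mul_apply, Fin.sum_univ_two]
  · rw [mul_inv_eq_iff_eq_mul]
    apply Subtype.ext
    show (!![0, 1; 1, 0] : Matrix (Fin 2) (Fin 2) F) * !![0, 1; 1, 1] =
      Matrix.adjugate !![0, 1; 1, 1] * !![0, 1; 1, 0]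
    ext i j
    fin_cases i <;> fin_cases j <;>
      simp [Matrix.mul_apply, Fin.sum_univ_two, Matrix.adjugate_fin_two, CharTwo.neg_eq]

/-- A permutation matrix of determinant one. -/
noncomputable def permEl (F : Type*) [Field F] [CharP F 2] (σ : Equiv.Perm (Fin 3)) : SL(3, F) :=
  ⟨σ.permMatrix F, by
    rw [Matrix.det_permutation]
    rcases Int.units_eq_one_or (Equiv.Perm.sign σ) with h | h <;> rw [h] <;> simp [CharTwo.neg_eq]⟩

theorem hasBad_psu {p : ℕ} (hp : p.Prime) (hp3 : 3 < p) {F : Type*} [Field F] [Finite F] [CharP F 2] {q : ℕ}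
    (e : G ≃* Cfsg.PSU 3 F q) : HasBad p G := by
  have hmem : ∀ σ : Equiv.Perm (Fin 3), permEl F σ ∈ Cfsg.SU 3 F q := fun σ u v => by
    show Cfsg.hermForm 3 F q ((σ.permMatrix F) *ᵥ u) ((σ.permMatrix F) *ᵥ v) = _
    rw [Matrix.permMatrix_mulVec, Matrix.permMatrix_mulVec]
    exact Equiv.sum_comp σ (fun i => u i * v i ^ q)
  have hmul : ∀ σ τ : Equiv.Perm (Fin 3), permEl F (σ * τ) = permEl F τ * permEl F σ := fun σ τ =>
    Subtype.ext (Matrix.permMatrix_mul σ τ)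
  have h1 : permEl F 1 = 1 := Subtype.ext Matrix.permMatrix_one
  let f : Equiv.Perm (Fin 3) →* Cfsg.SU 3 F q := MonoidHom.mk' (fun σ => ⟨permEl F σ⁻¹, hmem _⟩) fun σ τ =>
    Subtype.ext ((congrArg (permEl F) (mul_inv_rev σ τ)).trans (hmul τ⁻¹ σ⁻¹))
  let c : Equiv.Perm (Fin 3) := Equiv.swap 0 1 * Equiv.swap 1 2
  let d : Equiv.Perm (Fin 3) := Equiv.swap 0 1
  have hc : c ^ 3 = 1 ∧ c⁻¹ 0 ≠ 0 ∧ d * d = 1 ∧ d * c * d⁻¹ = c⁻¹ := by decide
  refine hasBad_quotient hp hp3 (a := f c) (b := f d) ?_ ?_ ?_ ?_ e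
  · rw [← map_pow, hc.1, map_one]
  · intro h
    have := congrFun (congrFun (congrArg (fun m : Cfsg.SU 3 F q => ((m : SL(3, F)) : Matrix (Fin 3) (Fin 3) F)) h) 0) 0
    simp [f, permEl, Equiv.Perm.permMatrix, PEquiv.toMatrix_apply, Equiv.toPEquiv_apply] at this
    exact hc.2.1 this
  · rw [← map_mul, hc.2.2.1, map_one]
  · rw [← map_mul, ← map_inv, ← map_mul, hc.2.2.2, map_inv]

theorem hasBad_suzuki {p : ℕ} (hp : p.Prime) (hp3 : 3 < p) (h : Cfsg.Lie.IsoSuzuki G) : HasBad p G := by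
  obtain ⟨F, hF, hFt, m, hm, hcard, ⟨e⟩⟩ := h
  have hS : Suzuki.SzField F m := ⟨hm, hcard⟩
  obtain ⟨k, hk, hkodd, hk1, hpk⟩ : ∃ k : ℕ, k ∈ ({2 ^ (2 * m + 1) + 2 ^ (m + 1) + 1,
      2 ^ (2 * m + 1) - 2 ^ (m + 1) + 1} : Set ℕ) ∧ Odd k ∧ 1 < k ∧ ¬ p ∣ k := by
    have hlt : 2 ^ (m + 1) < 2 ^ (2 * m + 1) := Nat.pow_lt_pow_right (by norm_num) (by omega)
    have e1 : Even (2 ^ (2 * m + 1)) := (Nat.even_pow.2 ⟨even_two, by omega⟩)
    have e2 : Even (2 ^ (m + 1)) := (Nat.even_pow.2 ⟨even_two, by omega⟩)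
    have hpos : 0 < 2 ^ (m + 1) := by positivity
    by_cases hd : p ∣ 2 ^ (2 * m + 1) + 2 ^ (m + 1) + 1
    · refine ⟨_, Or.inr rfl, ((Nat.even_sub hlt.le).2 (iff_of_true e1 e2)).add_one, by omega, fun hd' => ?_⟩
      have h2 : p ∣ 2 ^ (m + 1) * 2 := by
        have := Nat.dvd_sub hd hd'
        rwa [show 2 ^ (2 * m + 1) + 2 ^ (m + 1) + 1 - (2 ^ (2 * m + 1) - 2 ^ (m + 1) + 1) = 2 ^ (m + 1) * 2 by
          omega] at this
      rw [← pow_succ] at h2
      have := (Nat.prime_dvd_prime_iff_eq hp Nat.prime_two).1 (hp.dvd_of_dvd_pow h2)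
      omega
    · exact ⟨_, Or.inl rfl, (e1.add e2).add_one, by omega, hd⟩
  obtain ⟨U, -, hU, hcen, hN⟩ := Cfsg.Agent.S0333.result hm hcard k hk
  refine HasBad.of_injective (((Suzuki.minorEquiv hS).trans e.symm).toMonoidHom)
    ((Suzuki.minorEquiv hS).trans e.symm).injective (H := Subgroup.normalizer (U : Set (Cfsg.Sz F m))) ?_ ?_
  · rw [hN]
    refine Nat.Coprime.mul_left ?_ ((Nat.Prime.coprime_iff_not_dvd hp).2 hpk).symm
    refine ((Nat.Prime.coprime_iff_not_dvd hp).2 fun hd => ?_).symm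
    have := (Nat.prime_dvd_prime_iff_eq hp Nat.prime_two).1 (hp.dvd_of_dvd_pow (show p ∣ 2 ^ 2 by exact hd))
    omega
  intro hn
  haveI : Fact (Nat.Prime 2) := ⟨Nat.prime_two⟩
  obtain ⟨s, hs⟩ := exists_prime_orderOf_dvd_card' (G := Subgroup.normalizer (U : Set (Cfsg.Sz F m))) 2
    (by rw [hN]; exact ⟨2 * k, by ring⟩)
  obtain ⟨u, hu, hu1⟩ : ∃ u ∈ U, u ≠ 1 := by
    by_contra hne
    have : U = ⊥ := le_bot_iff.1 fun u hu => Subgroup.mem_bot.2 (by_contra fun h1 => hne ⟨u, hu, h1⟩)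
    rw [this, Subgroup.card_bot] at hU
    omega
  have hco : Nat.Coprime 2 k := Nat.coprime_two_left.2 hkodd
  have huk : orderOf u ∣ k := hU ▸ Subgroup.orderOf_dvd_natCard _ hu
  have hs' : orderOf (s : Cfsg.Sz F m) = 2 := by rw [Subgroup.orderOf_coe, hs]
  have hc := CN.commute_of_coprime hn s.2 (Subgroup.le_normalizer hu)
    (hs' ▸ hco.coprime_dvd_right huk)
  have hsU : (s : Cfsg.Sz F m) ∈ U := by
    have h' : (s : Cfsg.Sz F m) ∈ Subgroup.centralizer {u} := Subgroup.mem_centralizer_singleton_iff.2 hc.eq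
    exact (hcen u hu hu1).le h'
  have h2k : 2 ∣ k := hU ▸ hs' ▸ Subgroup.orderOf_dvd_natCard _ hsU
  exact (Nat.not_even_iff_odd.2 hkodd) (even_iff_two_dvd.2 h2k)

/-- Every group in Bender's list has a non-nilpotent subgroup of order prime to `p`. -/
theorem hasBad_bender {p : ℕ} (hp : p.Prime) (hp3 : 3 < p) (h : SEBender.IsBender G) : HasBad p G := by
  rcases h with ⟨F, _, _, ⟨n, hn, hc⟩, ⟨e⟩⟩ | h | ⟨F, _, _, n, hn, hc, ⟨e⟩⟩
  · haveI : CharP F 2 := charP_of_card_eq_prime_pow (R := F) (p := 2) (f := n) hc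
    exact hasBad_psl hp hp3 e
  · exact hasBad_suzuki hp hp3 h
  · haveI : CharP F 2 := charP_of_card_eq_prime_pow (R := F) (p := 2) (f := n * 2)
      (by rw [hc, pow_mul])
    exact hasBad_psu hp hp3 e

end Cfsg.Agent.PNilCrit
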