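import Cfsg.Agent.Lib.PNilCrit.Transfer
import Cfsg.Agent.Lib.PNilCrit.Outcomes

/-!
A group whose subgroups of order prime to `p > 3` are nilpotent is solvable.
-/

set_option autoImplicit false
set_option linter.style.haveILetI false
set_option linter.unusedSectionVars false

namespace Cfsg.Agent.PNilCrit

open Subgroup

universe u

theorem Min.false {G : Type u} [Group G] [Finite G] {p : ℕ} (h : Min p G) : False := by
  haveI : Fact (Nat.Prime 2) := ⟨Nat.prime_two⟩
  obtain ⟨S⟩ : Nonempty (Sylow 2 G) := inferInstance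
  obtain ⟨W, d⟩ := exists_wData h S
  have hne := locL_ne_top d h
  haveI := h.solv _ hne
  have hSL := sylow_le_locL d
  have hmem : ∀ s ∈ locL W, orderOf s = 2 → s ∈ W := by
    intro s hs hso
    obtain ⟨c, hc, hcle⟩ := LESylow.exists_conj_le_of_le (zpowers_le.2 hs)
      (IsPGroup.of_card (n := 1) (by rw [Nat.card_zpowers, hso, pow_one])) (S.subtype hSL)
    rw [Sylow.coe_subtype, map_subgroupOf_eq_of_le hSL] at hcle
    exact (mem_normalizer_iff.1 (d.locL_le_normalizer h hc) s).2
      (d.invol_mem h (hcle ⟨s, mem_zpowers s, rfl⟩) ((Invol.order_conj c s).trans hso))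
  obtain ⟨s, t, hs, ht, hst⟩ : ∃ s t : G, s ∈ W ∧ t ∈ W ∧ s ≠ 1 ∧ t ≠ 1 ∧ s ≠ t := by
    by_contra hno
    push Not at hno
    have h8 := d.eight_le h
    obtain ⟨s, hs, hs1⟩ := W.bot_or_exists_ne_one.resolve_left (d.ne_bot h)
    have h1 : (W : Set G) ⊆ {1, s} := fun w hw => by
      by_cases h0 : w = 1
      · exact Or.inl h0
      · exact Or.inr (hno s w hs hw hs1 h0).symm
    have h2 := (Set.ncard_le_ncard h1 (Set.toFinite _)).trans (Set.ncard_insert_le _ _)
    rw [Set.ncard_singleton, ← Nat.card_coe_set_eq] at h2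
    have h2' : Nat.card W ≤ 2 := h2
    omega
  obtain ⟨N, hN, hNodd, hB⟩ := SEBender.bender_of_se_solvable (stronglyEmbedded d h)
    (h.eq_bot_of_normal fun e => hne (top_le_iff.1 (e.ge.trans (normalCore_le _))))
    (fun a b ha hb hao hbo => d.comm a (hmem a ha hao) b (hmem b hb hbo))
    ⟨s, t, d.le.trans hSL hs, d.le.trans hSL ht, d.order hs hst.1, d.order ht hst.2.1, hst.2.2⟩
  obtain ⟨H, hHc, hHn⟩ := hasBad_bender h.prime (by have := h.five; omega) hB
  obtain ⟨K, hKc, hKn⟩ := HasBad.of_injective N.subtype N.subtype_injective hHc hHn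
  exact hKn (h.hnil K hKc)

/-- Passing to a quotient by an abelian group. -/
theorem hnil_quotient {G : Type u} [Group G] [Finite G] {p : ℕ} (hp : p.Prime)
    (hnil : ∀ H : Subgroup G, (Nat.card H).Coprime p → Group.IsNilpotent H) (N : Subgroup G) [N.Normal]
    (hN : IsPGroup p N ∨ (Nat.card N).Coprime p) (H : Subgroup (G ⧸ N)) (hH : (Nat.card H).Coprime p) :
    Group.IsNilpotent H := by
  set f := QuotientGroup.mk' N with hf
  set K := H.comap f with hK
  have hNK : N ≤ K := fun n hn => by
    rw [hK, mem_comap, show f n = 1 from (QuotientGroup.eq_one_iff n).2 hn]; exact one_mem _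
  have hmem : ∀ k : K, f k ∈ H := fun k => k.2
  let g : K →* H := (f.comp K.subtype).codRestrict H hmem
  have hg : Function.Surjective g := by
    rintro ⟨q, hq⟩
    obtain ⟨x, rfl⟩ := QuotientGroup.mk'_surjective N q
    exact ⟨⟨x, hq⟩, rfl⟩
  have hker : g.ker = N.subgroupOf K := by
    ext k
    rw [MonoidHom.mem_ker, mem_subgroupOf, ← QuotientGroup.eq_one_iff, Subtype.ext_iff]
    rfl
  have hcard : Nat.card K = Nat.card N * Nat.card H := by
    rw [← g.ker.card_mul_index, index_ker, MonoidHom.range_eq_top.2 hg, card_top, hker,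
      Nat.card_congr (subgroupOfEquivOfLe hNK).toEquiv]
  haveI : Fact p.Prime := ⟨hp⟩
  rcases hN with hp' | hc
  · obtain ⟨k, hk⟩ := IsPGroup.iff_card.1 hp'
    haveI : (N.subgroupOf K).Normal := inferInstance
    have hidx : (N.subgroupOf K).index = Nat.card H := by
      rw [← hker, index_ker, MonoidHom.range_eq_top.2 hg, card_top]
    obtain ⟨C, hC⟩ := Subgroup.exists_right_complement'_of_coprime (N := N.subgroupOf K) (by
      rw [hidx, Nat.card_congr (subgroupOfEquivOfLe hNK).toEquiv, hk]
      exact hH.symm.pow_left k)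
    have hCcard : Nat.card C = Nat.card H := by
      rw [← hidx, ← hC.symm.index_eq_card]
    haveI : Group.IsNilpotent C := by
      haveI := hnil (C.map K.subtype) (by rw [card_map_of_injective K.subtype_injective, hCcard]; exact hH)
      exact (Group.isNilpotent_congr (C.equivMapOfInjective K.subtype K.subtype_injective)).2 inferInstance
    refine Group.nilpotent_of_surjective (g.comp C.subtype) fun q => ?_
    obtain ⟨x, rfl⟩ := hg q
    obtain ⟨⟨a, b⟩, hab, -⟩ := isComplement'_def.1 hC |>.existsUnique x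
    refine ⟨b, ?_⟩
    have ha : g (a : K) = 1 := MonoidHom.mem_ker.1 (by rw [hker]; exact a.2)
    show g (b : K) = g x
    rw [← show (a : K) * b = x from hab, map_mul, ha, one_mul]
  · haveI := hnil K (by rw [hcard]; exact Nat.Coprime.mul_left hc hH)
    exact Group.nilpotent_of_surjective g hg

theorem solvable_main {p : ℕ} (hp : p.Prime) (hp3 : 3 < p) : ∀ (n : ℕ) (G : Type u) [Group G] [Finite G],
    Nat.card G = n → (∀ H : Subgroup G, (Nat.card H).Coprime p → Group.IsNilpotent H) → Group.IsSolvable G := by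
  intro n
  induction n using Nat.strong_induction_on with
  | _ n ih =>
  intro G _ _ hn hnil
  by_contra hns
  haveI : Fact p.Prime := ⟨hp⟩
  have hsolv : ∀ X : Subgroup G, X ≠ ⊤ → Group.IsSolvable X := fun X hX => by
    refine ih (Nat.card X) (hn ▸ ?_) X rfl fun H hH => ?_
    · exact lt_of_le_of_ne (Nat.le_of_dvd Nat.card_pos X.card_subgroup_dvd_card) fun e => hX (X.eq_top_of_card_eq e)
    · haveI := hnil (H.map X.subtype) (by rwa [card_map_of_injective X.subtype_injective])
      exact (Group.isNilpotent_congr (H.equivMapOfInjective X.subtype X.subtype_injective)).2 inferInstance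
  haveI : Nontrivial G := by
    by_contra hnt
    rw [not_nontrivial_iff_subsingleton] at hnt
    exact hns (Group.isSolvable_of_comm fun a b => Subsingleton.elim _ _)
  refine Min.false (p := p) (G := G) ⟨hp, by
    rcases Nat.lt_or_ge 4 p with h | h
    · exact h
    · interval_cases p <;> simp_all (config := { decide := true }), hnil, ⟨fun N hN => ?_⟩, hns, hsolv⟩
  by_contra hcon
  push Not at hcon
  haveI := hN
  haveI := hsolv N hcon.2
  -- an abelian normal subgroup inside
  classical
  obtain ⟨m, hm⟩ := (Group.isSolvable_def N).1 inferInstance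
  have hex : ∃ i, derivedSeries N i = ⊥ := ⟨m, hm⟩
  obtain ⟨i, hi⟩ : ∃ i, Nat.find hex = i + 1 := by
    refine Nat.exists_eq_add_one.2 (Nat.pos_of_ne_zero fun e => ?_)
    have h0 := Nat.find_spec hex
    rw [e, derivedSeries_zero] at h0
    exact hcon.1 (by rw [← range_subtype N, MonoidHom.range_eq_map, h0, Subgroup.map_bot])
  set A := (derivedSeries N i).map N.subtype with hA
  haveI : (derivedSeries N i).Characteristic := derivedSeries_characteristic N i
  haveI hAn : A.Normal := inferInstance
  have hA1 : A ≠ ⊥ := fun e => Nat.find_min hex (show i < Nat.find hex by omega)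
    ((map_eq_bot_iff_of_injective _ N.subtype_injective).1 e)
  have hAc : ∀ a ∈ A, ∀ b ∈ A, a * b = b * a := by
    rintro _ ⟨a, ha, rfl⟩ _ ⟨b, hb, rfl⟩
    have h1 := commutator_mem_commutator ha hb
    have h2 := Nat.find_spec hex
    rw [hi, derivedSeries_succ] at h2
    rw [h2, mem_bot, commutatorElement_eq_one_iff_mul_comm] at h1
    exact congrArg Subtype.val h1
  obtain ⟨B, hB, hB1, hBp⟩ : ∃ B : Subgroup G, B.Normal ∧ B ≠ ⊥ ∧ (IsPGroup p B ∨ (Nat.card B).Coprime p) := by
    haveI : IsMulCommutative A := .of_setLike_mul_comm hAc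
    by_cases hdvd : p ∣ Nat.card A
    · obtain ⟨P⟩ : Nonempty (Sylow p A) := inferInstance
      haveI hPc : (P : Subgroup A).Characteristic := P.characteristic_of_normal inferInstance
      refine ⟨(P : Subgroup A).map A.subtype, inferInstance, fun e => P.ne_bot_of_dvd_card hdvd
        ((map_eq_bot_iff_of_injective _ A.subtype_injective).1 e), Or.inl (P.2.map _)⟩
    · exact ⟨A, hAn, hA1, Or.inr ((hp.coprime_iff_not_dvd.2 hdvd).symm)⟩
  haveI := hB
  have hBs : Group.IsSolvable B := hsolv B fun e => hns (by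
    rcases hBp with h | h
    · rw [e] at h
      haveI := h.isNilpotent
      exact Group.isSolvable_of_surjective (f := (topEquiv : (⊤ : Subgroup G) ≃* G).toMonoidHom) topEquiv.surjective
    · rw [e, card_top] at h
      haveI := hnil ⊤ (by rwa [card_top])
      exact Group.isSolvable_of_surjective (f := (topEquiv : (⊤ : Subgroup G) ≃* G).toMonoidHom) topEquiv.surjective)
  haveI : Group.IsSolvable (G ⧸ B) := ih (Nat.card (G ⧸ B)) (by
    rw [← hn, ← index_eq_card, ← B.card_mul_index]
    exact lt_mul_of_one_lt_left (Nat.pos_of_ne_zero B.index_ne_zero_of_finite) (Finite.one_lt_card_iff_nontrivial.2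
      ((nontrivial_iff_ne_bot B).2 hB1))) (G ⧸ B) rfl (hnil_quotient hp hnil B hBp)
  exact hns (Group.isSolvable_of_ker_le_range B.subtype (QuotientGroup.mk' B) (by
    rw [QuotientGroup.ker_mk', range_subtype]))

end Cfsg.Agent.PNilCrit
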