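import Mathlib.GroupTheory.Solvable
import Mathlib.GroupTheory.GroupAction.Quotient
import Mathlib.GroupTheory.SpecificGroups.Cyclic

/-!
A solvable transitive group of prime degree: an element fixing two points fixes all.
-/

set_option autoImplicit false
set_option linter.style.haveILetI false

namespace Cfsg.Agent.PNilCrit

open MulAction

theorem fixes_all_prime {N : Type*} [Group N] [Finite N] [Group.IsSolvable N] {X : Type*} [Finite X]
    [MulAction N X] [IsPretransitive N X] (hq : (Nat.card X).Prime) {u : N} {a b : X} (hab : a ≠ b)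
    (ha : u • a = a) (hb : u • b = b) (c : X) : u • c = c := by
  classical
  set K := (toPermHom N X).ker with hK
  have hmemK : ∀ x : N, x ∈ K ↔ ∀ v : X, x • v = v := fun x => by
    rw [hK, MonoidHom.mem_ker, Equiv.ext_iff]
    rfl
  obtain ⟨m, hm⟩ := (Group.isSolvable_def N).1 inferInstance
  have hex : ∃ i, derivedSeries N i ≤ K := ⟨m, hm ▸ bot_le⟩
  obtain ⟨i, hi⟩ : ∃ i, Nat.find hex = i + 1 := by
    refine Nat.exists_eq_add_one.2 (Nat.pos_of_ne_zero fun e => ?_)
    have h0 := Nat.find_spec hex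
    rw [e, derivedSeries_zero] at h0
    obtain ⟨g, hg⟩ := exists_smul_eq N a b
    exact hab (((hmemK g).1 (h0 (Subgroup.mem_top g)) a).symm.trans hg)
  set D := derivedSeries N i with hD
  have hDK : ¬ D ≤ K := Nat.find_min hex (by omega)
  have hDD : ∀ x ∈ D, ∀ y ∈ D, ∀ v : X, x • y • v = y • x • v := by
    intro x hx y hy v
    have h1 : (y * x)⁻¹ * (x * y) ∈ K := by
      have h2 := Nat.find_spec hex
      rw [hi, derivedSeries_succ] at h2
      have h3 := h2 (Subgroup.commutator_mem_commutator (inv_mem hx) (inv_mem hy))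
      rwa [commutatorElement_def, inv_inv, inv_inv,
        show x⁻¹ * y⁻¹ * x * y = (y * x)⁻¹ * (x * y) by group] at h3
    have h2 := (hmemK _).1 h1 v
    rw [mul_smul, inv_smul_eq_iff, mul_smul, mul_smul] at h2
    exact h2
  haveI hDn : D.Normal := derivedSeries_normal N i
  set C := stabilizer N a with hC
  have hDC : ¬ D ≤ C := fun hle => hDK fun x hx => (hmemK x).2 fun v => by
    obtain ⟨g, rfl⟩ := exists_smul_eq N a v
    have h1 : (g⁻¹ * x * g) • a = a := hle (by simpa using hDn.conj_mem x hx g⁻¹)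
    rwa [mul_smul, mul_smul, inv_smul_eq_iff] at h1
  have htop : D ⊔ C = ⊤ := by
    have hidx : C.index = Nat.card X := index_stabilizer_of_transitive N a
    by_contra hne
    have h1 : (D ⊔ C).index ∣ C.index := Subgroup.index_dvd_of_le le_sup_right
    rw [hidx] at h1
    rcases (Nat.dvd_prime hq).1 h1 with e | e
    · exact hne (Subgroup.index_eq_one.1 e)
    · refine hDC ((le_sup_left : D ≤ D ⊔ C).trans (le_of_eq ?_))
      refine (Subgroup.eq_of_le_of_card_ge le_sup_right (le_of_eq ?_)).symm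
      refine Nat.eq_of_mul_eq_mul_right hq.pos ?_
      conv_lhs => rw [← e, Subgroup.card_mul_index]
      rw [← hidx, Subgroup.card_mul_index]
  have htrans : ∀ v : X, ∃ x ∈ D, x • a = v := fun v => by
    obtain ⟨g, rfl⟩ := exists_smul_eq N a v
    obtain ⟨x, hx, y, hy, rfl⟩ := Subgroup.mem_sup_of_normal_left.1 (htop.ge (Subgroup.mem_top g))
    exact ⟨x, hx, by rw [mul_smul, show y • a = a from hy]⟩
  have hreg : ∀ x ∈ D, x • a = a → x ∈ K := fun x hx hxa => (hmemK x).2 fun v => by
    obtain ⟨y, hy, rfl⟩ := htrans v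
    rw [hDD x hx y hy a, hxa]
  set R := D.map (toPermHom N X) with hR
  have hcard : Nat.card R = Nat.card X := by
    refine Nat.card_eq_of_bijective (fun r : R => (r : Equiv.Perm X) a) ⟨?_, fun v => ?_⟩
    · rintro ⟨_, x, hx, rfl⟩ ⟨_, y, hy, rfl⟩ e
      have e' : x • a = y • a := e
      have h1 := hreg _ (mul_mem (inv_mem hy) hx) (by rw [mul_smul, e', inv_smul_smul])
      refine Subtype.ext (Equiv.ext fun v => ?_)
      show x • v = y • v
      have h2 := (hmemK _).1 h1 v
      rwa [mul_smul, inv_smul_eq_iff] at h2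
    · obtain ⟨x, hx, rfl⟩ := htrans v
      exact ⟨⟨_, x, hx, rfl⟩, rfl⟩
  obtain ⟨d, hd, hdb⟩ := htrans b
  have hcomm : ∀ v : X, u • d • v = d • u • v := by
    have h1 : u * d * u⁻¹ ∈ D := hDn.conj_mem d hd u
    have h2 := hreg _ (mul_mem (inv_mem hd) h1) (by
      rw [mul_smul, mul_smul, mul_smul, inv_smul_eq_iff.2 ha.symm, hdb, hb, inv_smul_eq_iff, hdb])
    intro v
    have h3 := (hmemK _).1 h2 (u • v)
    rwa [mul_smul, mul_smul, mul_smul, inv_smul_smul, inv_smul_eq_iff] at h3
  haveI : Fact (Nat.card X).Prime := ⟨hq⟩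
  obtain ⟨x, hx, rfl⟩ := htrans c
  have hmem : (⟨toPermHom N X x, x, hx, rfl⟩ : R) ∈ Subgroup.zpowers (⟨toPermHom N X d, d, hd, rfl⟩ : R) :=
    mem_zpowers_of_prime_card hcard (fun e => hab (by
      rw [← hdb]
      exact (Equiv.ext_iff.1 (congrArg Subtype.val e) a).symm))
  obtain ⟨k, hk⟩ := mem_powers_iff_mem_zpowers.2 hmem
  have hxa : x • a = d ^ k • a := by
    have h1 : (toPermHom N X d) ^ k = toPermHom N X x := congrArg Subtype.val hk
    rw [← map_pow] at h1
    exact (Equiv.ext_iff.1 h1 a).symm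
  rw [hxa]
  clear hxa hk
  induction k with
  | zero => rw [pow_zero, one_smul, ha]
  | succ k ih => rw [pow_succ', mul_smul, hcomm, ih]

end Cfsg.Agent.PNilCrit
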