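import Cfsg.Agent.Lib.PNilCrit.Embed
import Cfsg.Agent.Lib.PNilCrit.PrimeDeg
import Cfsg.Agent.Lib.LocalEven.Large

/-!
`N(W)` is transitive on `W^#`, `|W| = p + 1` and the Sylow 2-subgroup centralises `W`.
-/

set_option autoImplicit false
set_option linter.style.haveILetI false
set_option linter.unusedSectionVars false

namespace Cfsg.Agent.PNilCrit

open Subgroup
open scoped Pointwise
open ClosedAbelian (core)

theorem exists_odd_quot {q : ℕ} (hq : Odd q) : ∀ m : ℕ, ∃ c : ℤ, Odd c ∧ (q : ℤ) ^ (2 * m + 1) + 1 = ((q : ℤ) + 1) * c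
  | 0 => ⟨1, odd_one, by ring⟩
  | m + 1 => by
    obtain ⟨c, hc, e⟩ := exists_odd_quot hq m
    have hq' : Odd (q : ℤ) := by exact_mod_cast hq
    refine ⟨(q : ℤ) ^ 2 * c - ((q : ℤ) - 1), ((hq'.pow).mul hc).sub_even (hq'.sub_odd odd_one), ?_⟩
    have e2 : (q : ℤ) ^ (2 * (m + 1) + 1) = (q : ℤ) ^ 2 * (q : ℤ) ^ (2 * m + 1) := by ring
    rw [e2, show (q : ℤ) ^ (2 * m + 1) = ((q : ℤ) + 1) * c - 1 by linarith]
    ring

theorem mersenne {q n j : ℕ} (hq : Odd q) (hn : 2 ≤ n) (he : 2 ^ n = q ^ j + 1) : j = 1 ∨ q = 1 := by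
  rcases Nat.even_or_odd' j with ⟨m, rfl | rfl⟩
  · exfalso
    have h4 : 4 ∣ 2 ^ n := (Nat.pow_dvd_pow 2 hn)
    obtain ⟨r, hr⟩ : Odd (q ^ m) := hq.pow
    rw [he, show q ^ (2 * m) = (2 * r + 1) ^ 2 by rw [← hr, ← pow_mul, mul_comm]] at h4
    have : (2 * r + 1) ^ 2 + 1 = 4 * (r * r + r) + 2 := by ring
    omega
  · obtain ⟨c, hc, e⟩ := exists_odd_quot hq m
    have hz : (2 : ℤ) ^ n = ((q : ℤ) + 1) * c := by rw [← e]; exact_mod_cast he
    have hc1 : c.natAbs = 1 := by
      have h1 : c.natAbs ∣ 2 ^ n := by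
        have := Int.natAbs_dvd_natAbs.2 (show c ∣ (2 : ℤ) ^ n from Dvd.intro_left _ hz.symm)
        simpa [Int.natAbs_pow] using this
      obtain ⟨i, -, hi⟩ := (Nat.dvd_prime_pow Nat.prime_two).1 h1
      rcases i with _ | i
      · exact hi
      · exfalso
        have h2 : Odd c.natAbs := Int.natAbs_odd.2 hc
        rw [hi] at h2
        exact (Nat.not_even_iff_odd.2 h2) (by simp [Nat.even_pow])
    have hcpos : c = 1 := by
      rcases Int.natAbs_eq c with h' | h'
      · rw [h', hc1]; rfl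
      · exfalso
        have h2 : c = -1 := by rw [h', hc1]; rfl
        have h3 : (0 : ℤ) < 2 ^ n := by positivity
        rw [hz, h2] at h3
        have : (0 : ℤ) ≤ q := Int.natCast_nonneg q
        linarith
    have hqe : q ^ (2 * m + 1) = q ^ 1 := by
      rw [hcpos, mul_one] at e
      have : (q : ℤ) ^ (2 * m + 1) = (q : ℤ) ^ 1 := by rw [pow_one]; linarith
      exact_mod_cast this
    rcases Nat.lt_or_ge 1 q with h1 | h1
    · exact Or.inl (Nat.pow_right_injective h1 hqe)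
    · refine Or.inr ?_
      obtain ⟨r, hr⟩ := hq
      omega

universe u

variable {G : Type u} [Group G] [Finite G] {p : ℕ} {S : Sylow 2 G} {W : Subgroup G}

/-- All involutions of the Sylow subgroup lie in `W`. -/
theorem WData.invol_mem (d : WData S W) (h : Min p G) {u : G} (hu : u ∈ (S : Subgroup G)) (huo : orderOf u = 2) :
    u ∈ W := by
  obtain ⟨z, hzS, hzo, hzc⟩ := exists_central h S
  obtain ⟨g, hg⟩ := isConj_iff.1 (Invol.se_isConj (stronglyEmbedded d h) hzo huo)
  exact hg ▸ d.closed (d.central z hzS (Invol.mul_self hzo) hzc) (hg.symm ▸ hu)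

theorem WData.orb_eq (d : WData S W) (h : Min p G) {z : G} (hz : z ∈ W) (hz1 : z ≠ 1) :
    orb (normalizer (W : Set G)) z = (W : Set G) \ {1} := by
  ext w
  constructor
  · rintro ⟨n, hn, rfl⟩
    exact ⟨(mem_normalizer_iff.1 hn z).1 hz, fun e => hz1 (conj_eq_one_iff.1 e)⟩
  · rintro ⟨hw, hw1⟩
    obtain ⟨g, hg⟩ := isConj_iff.1 (Invol.se_isConj (stronglyEmbedded d h) (d.order hz hz1) (d.order hw hw1))
    obtain ⟨n, hn, hnz⟩ := d.control {z} (Set.singleton_subset_iff.2 (d.le hz)) g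
      (fun a ha => by rw [Set.mem_singleton_iff.1 ha, hg]; exact d.le hw)
    exact ⟨n, hn, (hnz z rfl).symm.trans hg⟩

theorem WData.card_eq (d : WData S W) (h : Min p G) : Nat.card W = p + 1 := by
  obtain ⟨z, hzS, hzo, hzc⟩ := exists_central h S
  have hzW := d.central z hzS (Invol.mul_self hzo) hzc
  obtain ⟨j, hj⟩ := orbit_pow h (d.normalizer_ne_top h) d.sylow_le_normalizer hzS hzc
  rw [d.orb_eq h hzW (Invol.ne_one hzo), Nat.card_coe_set_eq, Set.ncard_sdiff_singleton_of_mem (one_mem W),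
    ← Nat.card_coe_set_eq] at hj
  have h8 := d.eight_le h
  obtain ⟨n, hn⟩ := IsPGroup.iff_card.1 d.isPGroup
  have hj' : Nat.card W - 1 = p ^ j := hj
  rw [hn] at hj' h8 ⊢
  have hn2 : 2 ≤ n := by
    by_contra hcon
    have : 2 ^ n ≤ 2 ^ 1 := Nat.pow_le_pow_right two_pos (by omega)
    omega
  have h5 := h.five
  rcases mersenne (h.prime.odd_of_ne_two h.ne_two) hn2 (show 2 ^ n = p ^ j + 1 by omega) with e | e
  · rw [e, pow_one] at hj'
    omega
  · omega

/-- A prime orbit of a solvable group: an element fixing two points fixes everything. -/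
theorem fixes_all {N : Subgroup G} [Group.IsSolvable N] {V : Subgroup G} {z u : G}
    (hz : z ∈ V) (horb : orb N z = (V : Set G) \ {1})
    (hcard : (Nat.card (orb N z)).Prime) (hu : u ∈ N) (huz : u * z = z * u) {w : G} (hw : w ∈ V) (hw1 : w ≠ 1)
    (hwz : w ≠ z) (huw : u * w = w * u) : ∀ v ∈ V, u * v = v * u := by
  have hmem : ∀ (n : G), n ∈ N → ∀ x ∈ orb N z, n * x * n⁻¹ ∈ orb N z := by
    rintro n hn _ ⟨m, hm, rfl⟩
    exact ⟨n * m, mul_mem hn hm, by group⟩
  let act : MulAction N (orb N z) :=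
    { smul := fun n x => ⟨(n : G) * x * (n : G)⁻¹, hmem n n.2 x x.2⟩
      one_smul := fun x => Subtype.ext (by show (1 : G) * x * (1 : G)⁻¹ = x; group)
      mul_smul := fun m n x => Subtype.ext (by
        show ((m : G) * n) * x * ((m : G) * n)⁻¹ = m * ((n : G) * x * (n : G)⁻¹) * (m : G)⁻¹
        group) }
  letI := act
  haveI : MulAction.IsPretransitive N (orb N z) := ⟨by
    rintro ⟨_, m, hm, rfl⟩ ⟨_, n, hn, rfl⟩
    refine ⟨⟨n * m⁻¹, mul_mem hn (inv_mem hm)⟩, Subtype.ext ?_⟩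
    show n * m⁻¹ * (m * z * m⁻¹) * (n * m⁻¹)⁻¹ = n * z * n⁻¹
    group⟩
  intro v hv
  rcases eq_or_ne v 1 with rfl | hv1
  · simp
  have h1 := fixes_all_prime (N := N) (X := orb N z) hcard (u := ⟨u, hu⟩)
    (a := ⟨z, 1, one_mem _, by simp⟩) (b := ⟨w, horb.ge ⟨hw, hw1⟩⟩)
    (fun e => hwz (congrArg Subtype.val e).symm)
    (Subtype.ext (show u * z * u⁻¹ = z by rw [huz, mul_inv_cancel_right]))
    (Subtype.ext (show u * w * u⁻¹ = w by rw [huw, mul_inv_cancel_right])) ⟨v, horb.ge ⟨hv, hv1⟩⟩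
  exact mul_inv_eq_iff_eq_mul.1 (congrArg Subtype.val h1)

/-- The Sylow subgroup centralises `W`. -/
theorem WData.sylow_le_centralizer (d : WData S W) (h : Min p G) : (S : Subgroup G) ≤ centralizer (W : Set G) := by
  obtain ⟨z, hzS, hzo, hzc⟩ := exists_central h S
  have hzW := d.central z hzS (Invol.mul_self hzo) hzc
  set N := normalizer (W : Set G) with hN
  haveI := h.solv N (d.normalizer_ne_top h)
  by_contra hcon
  obtain ⟨y, hy, hyC⟩ := SetLike.not_le_iff_exists.1 hcon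
  obtain ⟨k, hk⟩ := S.2 ⟨y, hy⟩
  have hk' : y ^ 2 ^ k = 1 := congrArg Subtype.val hk
  have hex : ∃ i, y ^ 2 ^ i ∈ centralizer (W : Set G) := ⟨k, by rw [hk']; exact one_mem _⟩
  classical
  obtain ⟨i, hi⟩ : ∃ i, Nat.find hex = i + 1 := by
    refine Nat.exists_eq_add_one.2 (Nat.pos_of_ne_zero fun e => ?_)
    have := Nat.find_spec hex
    rw [e, pow_zero, pow_one] at this
    exact hyC this
  set u := y ^ 2 ^ i with hu
  have huC : u ∉ centralizer (W : Set G) := Nat.find_min hex (by omega)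
  have hu2 : u * u ∈ centralizer (W : Set G) := by
    have := Nat.find_spec hex
    rwa [hi, pow_succ, pow_mul, pow_two] at this
  have huS : u ∈ (S : Subgroup G) := pow_mem hy _
  have huN : u ∈ N := d.sylow_le_normalizer huS
  have h4 := four_le_fixed d h huN fun w hw => by
    rw [show u * (u * w * u⁻¹) * u⁻¹ = (u * u) * w * (u * u)⁻¹ by group, ← mem_centralizer_iff.1 hu2 w hw,
      mul_inv_cancel_right]
  obtain ⟨w, hw, hw1, hwz⟩ : ∃ w ∈ W ⊓ centralizer ({u} : Set G), w ≠ 1 ∧ w ≠ z := by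
    by_contra hno
    push Not at hno
    have h1 : ((W ⊓ centralizer ({u} : Set G) : Subgroup G) : Set G) ⊆ {1, z} := fun w hw => by
      by_cases h0 : w = 1
      · exact Or.inl h0
      · exact Or.inr (hno w hw h0)
    have h2 := (Set.ncard_le_ncard h1 (Set.toFinite _)).trans (Set.ncard_insert_le _ _)
    rw [Set.ncard_singleton, ← Nat.card_coe_set_eq] at h2
    have h2' : Nat.card ↥(W ⊓ centralizer ({u} : Set G)) ≤ 2 := h2
    omega
  have horb := d.orb_eq h hzW (Invol.ne_one hzo)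
  refine huC (mem_centralizer_iff.2 fun v hv => (fixes_all (N := N) (V := W) (u := u) (z := z) hzW horb ?_ huN (hzc u huS) hw.1 hw1 hwz
    (mem_centralizer_singleton_iff.1 hw.2).symm v hv).symm)
  rw [horb, Nat.card_coe_set_eq, Set.ncard_sdiff_singleton_of_mem (one_mem W), ← Nat.card_coe_set_eq]
  show (Nat.card W - 1).Prime
  rw [d.card_eq h, Nat.add_sub_cancel]
  exact h.prime

/-- A normal subgroup of `p`-power index. -/
theorem WData.exists_p_quotient (d : WData S W) (h : Min p G) :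
    ∃ M : Subgroup G, M ≤ locL W ∧ (M.subgroupOf (locL W)).Normal ∧ M ≠ locL W ∧
      ∃ k : ℕ, (M.subgroupOf (locL W)).index = p ^ k := by
  haveI : Fact (Nat.Prime 2) := ⟨Nat.prime_two⟩
  obtain ⟨z, hzS, hzo, hzc⟩ := exists_central h S
  have hzW := d.central z hzS (Invol.mul_self hzo) hzc
  set L := locL W with hL
  set N := normalizer (W : Set G) with hN
  have hNL : N ≤ L := normalizer_le_locL W
  have hCN : centralizer (W : Set G) ≤ N := Subgroup.centralizer_le_normalizer _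
  haveI := h.solv L (locL_ne_top d h)
  have hWL : W ≤ L := d.le.trans (sylow_le_locL d)
  have hdec : ∀ x ∈ L, ∃ o ∈ core L, ∃ n ∈ N, x = o * n := by
    intro x hx
    obtain ⟨o, ho, n, hn, e⟩ := good_of_closed (d.isPGroup.comap_of_injective L.subtype L.subtype_injective)
      (W := W.subgroupOf L) (fun a ha b hb => Subtype.ext (d.comm _ (mem_subgroupOf.1 ha) _ (mem_subgroupOf.1 hb)))
      (fun T hT hWT u hu y hy => mem_subgroupOf.2 (d.sc (T.map L.subtype) (hT.map _)
        (fun w hw => ⟨⟨w, hWL hw⟩, hWT (mem_subgroupOf.2 hw), rfl⟩) u (mem_subgroupOf.1 hu) y ⟨_, hy, rfl⟩))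
      (⟨x, hx⟩ : L)
    refine ⟨o, ⟨o, ho, rfl⟩, n, ?_, congrArg Subtype.val e⟩
    refine mem_normalizer_iff_map_conj_eq.2 (eq_of_le_of_card_ge ?_
      (card_map_of_injective (MulAut.conj (n : G)).injective).ge)
    rintro _ ⟨w, hw, rfl⟩
    exact (mem_normalizer_iff.1 hn (⟨w, hWL hw⟩ : L)).1 hw
  set M := core L ⊔ centralizer (W : Set G) with hM
  have hML : M ≤ L := sup_le (ClosedAbelian.core_le L) (hCN.trans hNL)
  have hnorm : L ≤ normalizer (M : Set G) := by
    intro x hx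
    obtain ⟨o, ho, n, hn, rfl⟩ := hdec x hx
    refine mul_mem (Subgroup.le_normalizer (mem_sup_left ho)) ?_
    refine mem_normalizer_iff_map_conj_eq.2 ?_
    rw [hM, Subgroup.map_sup, mem_normalizer_iff_map_conj_eq.1 (ClosedAbelian.core_normalized L (hNL hn)),
      mem_normalizer_iff_map_conj_eq.1 (LELarge.normalizer_le_normalizer_centralizer W hn)]
  refine ⟨M, hML, normal_subgroupOf_of_le_normalizer hnorm, fun e => ?_, ?_⟩
  · obtain ⟨n, hn, hnz⟩ := exists_moved h d hzS hzo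
    have hcn : centralizer (W : Set G) ≤ normalizer (core L : Set G) :=
      (hCN.trans hNL).trans (ClosedAbelian.core_normalized L)
    have h1 : n ∈ (core L : Set G) * (centralizer (W : Set G) : Set G) := by
      rw [← coe_mul_of_right_le_normalizer_left _ _ hcn, ← hM, e]
      exact hNL hn
    obtain ⟨o, ho, c, hc, rfl⟩ := h1
    refine hnz ?_
    have hoN : o ∈ N := by simpa using mul_mem hn (inv_mem (hCN hc))
    have h2 : z * o * z⁻¹ * o⁻¹ ∈ core L ⊓ W := by
      refine ⟨(core L).mul_mem (ClosedAbelian.conj_mem_core (hWL hzW) ho) ((core L).inv_mem ho), ?_⟩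
      have := mul_mem hzW ((mem_normalizer_iff.1 hoN _).1 (inv_mem hzW))
      simpa [mul_assoc] using this
    have h3 : z * o * z⁻¹ * o⁻¹ = 1 := (ClosedAbelian.TwoEl.of_group d.isPGroup h2.2).eq_one_of_odd
      (ClosedAbelian.odd_orderOf_of_mem (ClosedAbelian.core_odd L) h2.1)
    rw [mul_inv_eq_one, mul_inv_eq_iff_eq_mul] at h3
    show o * c * z = z * (o * c)
    rw [mul_assoc, ← mem_centralizer_iff.1 hc z hzW, ← mul_assoc, ← h3, mul_assoc]
  · haveI := h.solv N (d.normalizer_ne_top h)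
    obtain ⟨k, hk⟩ := IsPGroup.iff_card.1 S.2
    obtain ⟨H, hSH, hHN, hHc, m, hm⟩ := exists_hall_ge (K := N) h.prime d.sylow_le_normalizer (by
      rw [hk]; exact ((Nat.coprime_primes Nat.prime_two h.prime).2 (Ne.symm h.ne_two)).pow_left k)
    have hHC : H ≤ centralizer (W : Set G) := fun x hx => mem_centralizer_iff.2 fun w hw =>
      (central_of_nil (h.hnil H hHc) S hSH (d.le hw)
        (fun s hs => (mem_centralizer_iff.1 (d.sylow_le_centralizer h hs) w hw).symm) hx).symm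
    have hidx : (H.subgroupOf N).index = p ^ m := by
      have h1 := (H.subgroupOf N).card_mul_index
      rw [Nat.card_congr (subgroupOfEquivOfLe hHN).toEquiv, hm] at h1
      exact Nat.eq_of_mul_eq_mul_left Nat.card_pos h1
    haveI : (M.subgroupOf L).Normal := normal_subgroupOf_of_le_normalizer hnorm
    let f : N →* L ⧸ M.subgroupOf L := (QuotientGroup.mk' _).comp (inclusion hNL)
    have hf : Function.Surjective f := by
      intro q
      obtain ⟨⟨x, hx⟩, rfl⟩ := QuotientGroup.mk_surjective q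
      obtain ⟨o, ho, n, hn, rfl⟩ := hdec x hx
      refine ⟨⟨n, hn⟩, QuotientGroup.eq.2 (mem_subgroupOf.2 ?_)⟩
      show n⁻¹ * (o * n) ∈ M
      have := ClosedAbelian.conj_mem_core (inv_mem (hNL hn)) ho
      exact mem_sup_left (by simpa [mul_assoc] using this)
    have hle : H.subgroupOf N ≤ f.ker := fun x hx => by
      rw [MonoidHom.mem_ker]
      exact (QuotientGroup.eq_one_iff _).2 (mem_subgroupOf.2 (mem_sup_right (hHC (mem_subgroupOf.1 hx))))
    have h1 : (M.subgroupOf L).index = f.ker.index := by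
      rw [index_ker, MonoidHom.range_eq_top.2 hf, card_top]
      rfl
    obtain ⟨j, -, hj⟩ := (Nat.dvd_prime_pow h.prime).1 (hidx ▸ index_dvd_of_le hle)
    exact ⟨j, h1.trans hj⟩

end Cfsg.Agent.PNilCrit
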