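import Cfsg.Agent.Lib.PNilCrit.Trans
import Cfsg.Agent.Lib.PNilCrit.Four
import Cfsg.Agent.Lib.PStable.FusionControl
import Cfsg.Agent.Lib.Solvable.ScnCentralizer

/-!
`W` lies in the `p'`-core of `L` and is normal in `L`; otherwise `L` would control `p`-transfer.
-/

set_option autoImplicit false
set_option linter.style.haveILetI false
set_option linter.unusedSectionVars false

namespace Cfsg.Agent.PNilCrit

open Subgroup

/-- A Frattini argument modulo a kernel of order prime to `p`. -/
theorem frattini_coprime {K : Type*} [Group K] [Finite K] {H : Type*} [Group H] {p : ℕ} [hp : Fact p.Prime]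
    (f : K →* H) (hker : (Nat.card f.ker).Coprime p) (Z : Subgroup K) (hZ : IsPGroup p Z)
    (hn : (Z.map f).Normal) (x : K) : ∃ o ∈ f.ker, ∃ n ∈ normalizer (Z : Set K), x = o * n := by
  set B := (Z.map f).comap f with hB
  haveI : B.Normal := hn.comap f
  have hZB : Z ≤ B := fun z hz => ⟨z, hz, rfl⟩
  have hkB : f.ker ≤ B := fun o ho => by rw [hB, mem_comap, MonoidHom.mem_ker.1 ho]; exact one_mem _
  have hcompl : ∀ b ∈ B, ∃ o ∈ f.ker, ∃ z ∈ Z, b = o * z := by
    rintro b ⟨z, hz, e⟩
    exact ⟨b * z⁻¹, by rw [MonoidHom.mem_ker, map_mul, map_inv, e, mul_inv_cancel], z, hz,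
      (inv_mul_cancel_right b z).symm⟩
  have hidx : ¬ p ∣ (Z.subgroupOf B).index := by
    have h1 := (Z.subgroupOf B).card_mul_index
    rw [Nat.card_congr (subgroupOfEquivOfLe hZB).toEquiv] at h1
    have h2 : Nat.card B ≤ Nat.card f.ker * Nat.card Z := by
      rw [← Nat.card_prod]
      refine Nat.card_le_card_of_surjective
        (fun q : f.ker × Z => (⟨q.1.1 * q.2.1, mul_mem (hkB q.1.2) (hZB q.2.2)⟩ : B)) fun b => ?_
      obtain ⟨o, ho, w, hw, e⟩ := hcompl b b.2
      exact ⟨(⟨o, ho⟩, ⟨w, hw⟩), Subtype.ext e.symm⟩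
    obtain ⟨n, hn'⟩ := IsPGroup.iff_card.1 hZ
    have hdvd : Nat.card B = Nat.card f.ker * Nat.card Z := le_antisymm h2 (Nat.le_of_dvd Nat.card_pos
      (Nat.Coprime.mul_dvd_of_dvd_of_dvd (by rw [hn']; exact hker.pow_right n) (card_dvd_of_le hkB) (card_dvd_of_le hZB)))
    rw [hdvd, mul_comm (Nat.card f.ker)] at h1
    intro hd
    rw [Nat.eq_of_mul_eq_mul_left Nat.card_pos h1] at hd
    exact (hp.out.coprime_iff_not_dvd.1 hker.symm) hd
  let P : Sylow p B := IsPGroup.toSylow (P := Z.subgroupOf B) (hZ.comap_of_injective B.subtype B.subtype_injective) hidx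
  have hP : (P : Subgroup B).map B.subtype = Z := by
    rw [show (P : Subgroup B) = Z.subgroupOf B from rfl]
    exact map_subgroupOf_eq_of_le hZB
  have hxB : Z.map (MulAut.conj x).toMonoidHom ≤ B := by
    rintro _ ⟨z, hz, rfl⟩
    exact Subgroup.Normal.conj_mem inferInstance z (hZB hz) x
  obtain ⟨b, hb, hble⟩ := LESylow.exists_conj_le_of_le hxB (hZ.map _) P
  rw [hP] at hble
  have hbx : b * x ∈ normalizer (Z : Set K) := by
    refine mem_normalizer_iff_map_conj_eq.2 (eq_of_le_of_card_ge ?_
      (card_map_of_injective (MulAut.conj (b * x)).injective).ge)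
    rintro _ ⟨w, hw, rfl⟩
    simpa [mul_assoc] using hble ⟨_, ⟨w, hw, rfl⟩, rfl⟩
  obtain ⟨o, ho, z, hz, hbo⟩ := hcompl b⁻¹ (inv_mem hb)
  exact ⟨o, ho, z * (b * x), mul_mem (le_normalizer hz) hbx, by
    rw [← mul_assoc, ← hbo, inv_mul_cancel_left]⟩

universe u

variable {G : Type u} [Group G] [Finite G] {p : ℕ} {S : Sylow 2 G} {W : Subgroup G}

/-- Sections of `G` of characteristic `p` are stable. -/
theorem Min.isQuad (h : Min p G) (Y : Type u) [Group Y] [Finite Y] (hY : Functors.IsSectionOf G Y)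
    (hC : Functors.PConstr p Y) : ZJ.IsQuad p Y := by
  haveI : Fact p.Prime := ⟨h.prime⟩
  obtain ⟨K, f, hf⟩ := hY
  by_cases hK : K = ⊤
  swap
  · haveI := h.solv K hK
    haveI : Group.IsSolvable Y := Group.isSolvable_of_surjective (f := f) hf
    exact ScnCentralizer.isQuad_of_solvable h.five
  · subst hK
    set g : G →* Y := f.comp topEquiv.symm.toMonoidHom
    have hg : Function.Surjective g := hf.comp topEquiv.symm.surjective
    haveI := h.simple
    rcases (inferInstance : g.ker.Normal).eq_bot_or_eq_top with e | e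
    · exfalso
      let eqv : G ≃* Y := MulEquiv.ofBijective g ⟨(MonoidHom.ker_eq_bot_iff g).1 e, hg⟩
      haveI := Cfsg.pCore_normal p Y
      have hb : Cfsg.pCore p Y = ⊥ := by
        have hn : ((Cfsg.pCore p Y).comap g).Normal := Subgroup.Normal.comap inferInstance g
        have hp' : IsPGroup p ↥((Cfsg.pCore p Y).comap g) :=
          (PBasic.pCore_isPGroup p Y).comap_of_injective g eqv.injective
        have h1 : (Cfsg.pCore p Y).comap g = ⊥ := h.eq_bot_of_normal fun e' => h.nsol (by
          rw [e'] at hp'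
          haveI := hp'.isNilpotent
          exact Group.isSolvable_of_surjective (f := (topEquiv : (⊤ : Subgroup G) ≃* G).toMonoidHom) topEquiv.surjective)
        rw [← Subgroup.map_comap_eq_self_of_surjective hg (Cfsg.pCore p Y), h1, Subgroup.map_bot]
      refine h.nsol (Group.isSolvable_of_comm fun a b => ?_)
      have htriv : ∀ y : Y, y = 1 := fun y => by
        have h2 := hC (show y ∈ centralizer (Cfsg.pCore p Y : Set Y) from mem_centralizer_iff.2 fun q hq => by
          rw [hb, SetLike.mem_coe, mem_bot] at hq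
          simp [hq])
        rwa [hb, mem_bot] at h2
      exact eqv.injective ((htriv _).trans (htriv _).symm)
    · haveI : Subsingleton Y := ⟨fun a b => by
        obtain ⟨x, rfl⟩ := hg a
        obtain ⟨y, rfl⟩ := hg b
        rw [MonoidHom.mem_ker.1 (e ▸ mem_top x : x ∈ g.ker), MonoidHom.mem_ker.1 (e ▸ mem_top y : y ∈ g.ker)]⟩
      haveI : Group.IsSolvable Y := Group.isSolvable_of_comm fun a b => Subsingleton.elim _ _
      exact ScnCentralizer.isQuad_of_solvable h.five

/-- `W` is normal in `L`. -/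
theorem WData.locL_le_normalizer (d : WData S W) (h : Min p G) : locL W ≤ normalizer (W : Set G) := by
  haveI : Fact p.Prime := ⟨h.prime⟩
  haveI : Fact (Nat.Prime 2) := ⟨Nat.prime_two⟩
  set L := locL W with hL
  haveI := h.solv L (locL_ne_top d h)
  have hNL : normalizer (W : Set G) ≤ L := normalizer_le_locL W
  have hSL : (S : Subgroup G) ≤ L := sylow_le_locL d
  have hWL : W ≤ L := d.le.trans hSL
  set O := Cfsg.pPrimeCore p L with hO
  haveI : O.Normal := FittingCores.pPrimeCore_normal p
  have hOc : (Nat.card O).Coprime p := PBasic.pPrimeCore_coprime p L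
  by_cases hev : Even (Nat.card O)
  · -- the whole of `W` lies in the core
    obtain ⟨s, hs⟩ := exists_prime_orderOf_dvd_card' (G := O) 2 hev.two_dvd
    have hso : orderOf ((s : L) : G) = 2 := by rw [Subgroup.orderOf_coe, Subgroup.orderOf_coe, hs]
    obtain ⟨c, hc, hcle⟩ := LESylow.exists_conj_le_of_le (A := zpowers ((s : L) : G)) (zpowers_le.2 (s : L).2)
      (IsPGroup.of_card (n := 1) (by rw [Nat.card_zpowers, hso, pow_one])) (S.subtype hSL)
    rw [Sylow.coe_subtype, map_subgroupOf_eq_of_le hSL] at hcle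
    have hwS : c * ((s : L) : G) * c⁻¹ ∈ (S : Subgroup G) := hcle ⟨_, mem_zpowers _, rfl⟩
    have hw := d.invol_mem h hwS ((Invol.order_conj c _).trans hso)
    have hwO : (⟨c * ((s : L) : G) * c⁻¹, hWL hw⟩ : L) ∈ O := by
      have := (inferInstance : O.Normal).conj_mem (s : L) s.2 ⟨c, hc⟩
      exact this
    have hWO : ∀ v, ∀ hv : v ∈ W, (⟨v, hWL hv⟩ : L) ∈ O := fun v hv => by
      rcases eq_or_ne v 1 with rfl | hv1
      · exact one_mem O
      obtain ⟨n, hn, e⟩ : v ∈ orb (normalizer (W : Set G)) (c * ((s : L) : G) * c⁻¹) :=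
        (d.orb_eq h hw (fun e => Invol.ne_one hso (conj_eq_one_iff.1 e))).ge ⟨hv, hv1⟩
      have h1 := (inferInstance : O.Normal).conj_mem _ hwO ⟨n, hNL hn⟩
      have e2 : (⟨v, hWL hv⟩ : L) = ⟨n, hNL hn⟩ * ⟨c * ((s : L) : G) * c⁻¹, hWL hw⟩ * (⟨n, hNL hn⟩ : L)⁻¹ :=
        Subtype.ext e.symm
      rw [e2]; exact h1
    -- the Sylow 2-subgroup of the nilpotent core is normal
    haveI : Group.IsNilpotent O := by
      haveI := h.hnil (O.map L.subtype) (by rw [card_map_of_injective L.subtype_injective]; exact hOc)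
      exact (Group.isNilpotent_congr (O.equivMapOfInjective L.subtype L.subtype_injective)).2 inferInstance
    obtain ⟨Q, hQ⟩ := PBasic.exists_sylow_subgroupOf (S.subtype hSL) O
    haveI hQn : (Q : Subgroup O).Normal :=
      Sylow.normal_of_normalizerCondition Group.normalizerCondition_of_isNilpotent _
    haveI : Subsingleton (Sylow 2 O) := (Q.unique_of_normal hQn).instSubsingleton
    intro x hx
    refine mem_normalizer_iff_map_conj_eq.2 (eq_of_le_of_card_ge ?_
      (card_map_of_injective (MulAut.conj x).injective).ge)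
    rintro _ ⟨w, hw, rfl⟩
    show x * w * x⁻¹ ∈ W
    rcases eq_or_ne w 1 with rfl | hw1
    · simp
    have hwo := d.order hw hw1
    set y : L := ⟨x, hx⟩ * ⟨w, hWL hw⟩ * (⟨x, hx⟩ : L)⁻¹ with hy
    have hyO : y ∈ O := (inferInstance : O.Normal).conj_mem _ (hWO w hw) _
    have hyo : orderOf y = 2 := by
      rw [← Subgroup.orderOf_coe]
      exact (Invol.order_conj x w).trans hwo
    have hp2 : IsPGroup 2 ↥(zpowers (⟨y, hyO⟩ : O)) :=
      IsPGroup.of_card (n := 1) (by rw [Nat.card_zpowers, Subgroup.orderOf_mk, hyo, pow_one])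
    obtain ⟨Q', hQ'⟩ := hp2.exists_le_sylow
    rw [Subsingleton.elim Q' Q, hQ] at hQ'
    have hyS : (y : G) ∈ (S : Subgroup G) := hQ' (mem_zpowers _)
    exact d.invol_mem h hyS ((Invol.order_conj x w).trans hwo)
  · -- the transfer case
    exfalso
    obtain ⟨M, hML, hMn, hMne, k, hk⟩ := d.exists_p_quotient h
    haveI := hMn
    have hk0 : k ≠ 0 := fun e => hMne (le_antisymm hML (subgroupOf_eq_top.1 (index_eq_one.1 (by rw [hk, e, pow_zero]))))
    obtain ⟨P⟩ : Nonempty (Sylow p L) := inferInstance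
    have hPne : (P : Subgroup L) ≠ ⊥ := P.ne_bot_of_dvd_card
      ((hk ▸ dvd_pow_self p hk0 : p ∣ (M.subgroupOf L).index).trans (index_dvd_card _))
    set f := QuotientGroup.mk' O with hf
    have hf' : Function.Surjective f := QuotientGroup.mk'_surjective O
    have hker : f.ker = O := QuotientGroup.ker_mk' O
    have hinj : Set.InjOn f (P : Subgroup L) := by
      intro a ha b hb e
      obtain ⟨m, hm⟩ := P.2 ⟨a⁻¹ * b, mul_mem (inv_mem ha) hb⟩
      exact inv_mul_eq_one.1 (orderOf_eq_one_iff.1 (Nat.eq_one_of_dvd_coprimes (hOc.pow_right m)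
        (O.orderOf_dvd_natCard (QuotientGroup.eq.1 e)) (orderOf_dvd_of_pow_eq_one (congrArg Subtype.val hm))))
    set Z := ZJ.zJ p True (P : Subgroup L) with hZ
    have hZn : (Z.map f).Normal := by
      haveI : Group.IsSolvable (L ⧸ O) := Group.isSolvable_of_surjective (f := f) hf'
      have hc : Subgroup.centralizer (Cfsg.pCore p (L ⧸ O) : Set (L ⧸ O)) ≤ Cfsg.pCore p (L ⧸ O) :=
        FittingCores.centralizer_pCore_le h.prime (PBasic.pPrimeCore_quotient_pPrimeCore p L)
      rw [hZ, ZJ.zJ_map f hinj]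
      exact ZJ.zJ_normal h.ne_two (ScnCentralizer.isQuad_of_solvable h.five) hc (P.mapSurjective hf') True
    have hfr : ∀ x : L, ∃ o ∈ O, ∃ n ∈ normalizer (Z : Set L), x = o * n := fun x => by
      simpa [hker] using frattini_coprime f (by rw [hker]; exact hOc) Z (P.2.to_le (ZJ.zJ_le _)) hZn x
    set P₀ := (P : Subgroup L).map L.subtype with hP₀
    set Z₀ := ZJ.zJ p True P₀ with hZ₀
    have hZmap : Z.map L.subtype = Z₀ := by rw [hZ, hZ₀, hP₀, ZJ.zJ_map L.subtype L.subtype_injective.injOn]
    have hP₀p : IsPGroup p P₀ := P.2.map _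
    have hZ₀ne : Z₀ ≠ ⊥ := fun e => ZJ.zCore_ne_bot (p := p) (e := True) hP₀p
      (fun e' => hPne (map_injective L.subtype_injective (e'.trans (Subgroup.map_bot _).symm)))
      (le_bot_iff.1 ((PStable.zCore_le_zJ P₀).trans (le_of_eq e)))
    have hZ₀top : Z₀ ≠ ⊤ := fun e => locL_ne_top d h
      (top_le_iff.1 (e ▸ hZmap ▸ map_subtype_le Z))
    set M₁ := normalizer (Z₀ : Set G) with hM₁
    have hM₁top : M₁ ≠ ⊤ := h.normalizer_ne_top hZ₀ne hZ₀top
    have hNM₁ : (normalizer (Z : Set L)).map L.subtype ≤ M₁ := by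
      rw [hM₁, ← hZmap]
      exact le_normalizer_map L.subtype
    -- `M₁ ⊓ L` has a full Sylow 2-subgroup
    have hML₁ : M₁ ≤ L := by
      haveI := h.solv M₁ hM₁top
      set N := normalizer (Z : Set L) with hN
      obtain ⟨T⟩ : Nonempty (Sylow 2 N) := inferInstance
      have hidx : ¬ 2 ∣ N.index := by
        have h1 : (O ⊔ N) = ⊤ := eq_top_iff.2 fun x _ => by
          obtain ⟨o, ho, n, hn, rfl⟩ := hfr x
          exact mul_mem (mem_sup_left ho) (mem_sup_right hn)
        have h2 : N.relIndex ⊤ ∣ Nat.card O := by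
          rw [relIndex_top_right]
          have h3 : N.index ≤ Nat.card O := by
            rw [index_eq_card]
            refine Nat.card_le_card_of_surjective (fun o : O => QuotientGroup.mk (o : L)) fun q => ?_
            obtain ⟨x, rfl⟩ := QuotientGroup.mk_surjective q
            obtain ⟨o, ho, n, hn, rfl⟩ := hfr x
            exact ⟨⟨o, ho⟩, QuotientGroup.eq.2 (by rwa [inv_mul_cancel_left])⟩
          have h4 : N.index = (N.subgroupOf O).index := by
            refine (Nat.card_eq_of_bijective (fun q : O ⧸ N.subgroupOf O => Quotient.liftOn' q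
              (fun o => (QuotientGroup.mk (o : L) : L ⧸ N)) (fun a b hab => QuotientGroup.eq.2 ?_)) ⟨?_, ?_⟩).symm
            · exact mem_subgroupOf.1 ((QuotientGroup.leftRel_apply (s := N.subgroupOf O)).1 hab)
            · intro a b e
              induction a using QuotientGroup.induction_on
              induction b using QuotientGroup.induction_on
              exact QuotientGroup.eq.2 (mem_subgroupOf.2 (by simpa using (QuotientGroup.eq (s := N)).1 e))
            · intro q
              obtain ⟨x, rfl⟩ := QuotientGroup.mk_surjective q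
              obtain ⟨o, ho, n, hn, rfl⟩ := hfr x
              exact ⟨QuotientGroup.mk (⟨o, ho⟩ : O), QuotientGroup.eq.2 (by rwa [inv_mul_cancel_left])⟩
          rw [h4]
          exact index_dvd_card _
        rw [relIndex_top_right] at h2
        exact fun h2' => hev (even_iff_two_dvd.2 (h2'.trans h2))
      set T₀ := ((T : Subgroup N).map N.subtype).map L.subtype with hT₀
      have hT₀p : IsPGroup 2 T₀ := (T.2.map _).map _
      have hT₀M : T₀ ≤ M₁ := (map_mono (map_subtype_le _)).trans hNM₁
      have hT₀L : T₀ ≤ L := map_subtype_le _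
      -- a Sylow subgroup of `L`, so a conjugate of `S`
      have hidx' : ¬ 2 ∣ ((T : Subgroup N).map N.subtype).index := by
        rw [← relIndex_mul_index (map_subtype_le _), Nat.prime_two.dvd_mul, not_or, relIndex, subgroupOf,
          comap_map_eq_self_of_injective N.subtype_injective]
        exact ⟨T.not_dvd_index, hidx⟩
      let T' : Sylow 2 L := IsPGroup.toSylow (T.2.map N.subtype) hidx'
      obtain ⟨g, hg⟩ := MulAction.exists_smul_eq L (S.subtype hSL) T'
      have hg' : ∀ w, ∀ hw : w ∈ W, (g : G) * w * (g : G)⁻¹ ∈ T₀ := fun w hw => by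
        have h1 : g * ⟨w, hWL hw⟩ * g⁻¹ ∈ ((g • S.subtype hSL : Sylow 2 L) : Subgroup L) := by
          rw [Sylow.coe_subgroup_smul]
          exact ⟨⟨w, hWL hw⟩, mem_subgroupOf.2 (d.le hw), rfl⟩
        rw [hg] at h1
        exact ⟨_, h1, rfl⟩
      refine le_of_four_solvable (stronglyEmbedded d h) (E := W.map (MulAut.conj (g : G)).toMonoidHom)
        (SEBrick.IsFour.map ⟨⟨.of_setLike_mul_comm d.comm, fun a ha => by rw [pow_two]; exact d.sq a ha⟩,
          (by norm_num : (4 : ℕ) ≤ 8).trans (d.eight_le h)⟩ _ (MulAut.conj (g : G)).injective.injOn) ?_ ?_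
      · rintro _ ⟨w, hw, rfl⟩; exact hT₀L (hg' w hw)
      · rintro _ ⟨w, hw, rfl⟩; exact hT₀M (hg' w hw)
    -- `P₀` is a Sylow subgroup of `G`
    obtain ⟨R, hR⟩ := hP₀p.exists_le_sylow
    have hPR : P₀ = (R : Subgroup G) := LESylow.eq_of_normalizer_inf_le R.2 hR fun y hy => by
      have hyL : y ∈ L := hML₁ ((ZJ.normalizer_le_normalizer_zJ P₀) (mem_inf.1 hy).2)
      have hp' : IsPGroup p ↥((P : Subgroup L) ⊔ zpowers (⟨y, hyL⟩ : L)) := by
        refine ((R.2.comap_of_injective L.subtype L.subtype_injective)).to_le (sup_le ?_ (zpowers_le.2 (mem_inf.1 hy).1))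
        intro a ha
        exact hR ⟨a, ha, rfl⟩
      have := P.3 hp' le_sup_left
      exact ⟨⟨y, hyL⟩, this.le (mem_sup_right (mem_zpowers _)), rfl⟩
    -- transfer
    have hfus : ∀ x ∈ R, ∀ g : G, g * x * g⁻¹ ∈ R → ∃ v ∈ L, v * x * v⁻¹ = g * x * g⁻¹ := by
      intro x hx g hg
      obtain ⟨n, hn, hna⟩ := PStable.exists_mem_normalizer_zJ (e := True) h.ne_two
        (fun Y _ _ hY hC => h.isQuad Y hY hC) R (A := {x}) (g := g) (Set.singleton_subset_iff.2 hx)
        (by rw [Set.image_singleton, Set.singleton_subset_iff]; exact hg)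
      rw [← hPR] at hn
      exact ⟨n, hML₁ hn, hna x rfl⟩
    have hRL : (R : Subgroup G) ≤ L := hPR ▸ map_subtype_le _
    have hfoc := Fusion.commutator_inf_eq_of_controlsFusion R L hRL hfus
    have hcomm : _root_.commutator G = ⊤ := by
      rcases (inferInstance : (_root_.commutator G).Normal) |> fun hn => (by
        haveI := h.simple
        exact hn.eq_bot_or_eq_top) with e | e
      · exact absurd (Group.isSolvable_of_comm fun a b => commutatorElement_eq_one_iff_mul_comm.1
          (mem_bot.1 (e ▸ commutator_mem_commutator (mem_top a) (mem_top b)))) h.nsol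
      · exact e
    rw [hcomm, top_inf_eq] at hfoc
    -- a proper subgroup of `p`-power index over the derived group
    haveI : Group.IsSolvable (L ⧸ M.subgroupOf L) := Group.isSolvable_of_surjective
      (f := QuotientGroup.mk' (M.subgroupOf L)) (QuotientGroup.mk'_surjective _)
    set D := _root_.commutator L ⊔ M.subgroupOf L with hD
    have hDne : D ≠ ⊤ := by
      intro e
      haveI : Nontrivial (L ⧸ M.subgroupOf L) := by
        rw [QuotientGroup.nontrivial_iff]
        intro e'
        rw [e', index_top] at hk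
        exact hk0 ((Nat.pow_eq_one.1 hk.symm).resolve_left h.prime.ne_one)
      refine (Group.IsSolvable.commutator_lt_top_of_nontrivial (L ⧸ M.subgroupOf L)).ne (eq_top_iff.2 fun q _ => ?_)
      obtain ⟨x, rfl⟩ := QuotientGroup.mk'_surjective _ q
      obtain ⟨a, ha, b, hb, rfl⟩ := mem_sup_of_normal_left.1 (e.ge (mem_top x) : x ∈ D)
      rw [map_mul, show QuotientGroup.mk' (M.subgroupOf L) b = 1 from (QuotientGroup.eq_one_iff b).2 hb, mul_one,
        _root_.commutator_def]
      have := map_mono (f := QuotientGroup.mk' (M.subgroupOf L)) (show _root_.commutator L ≤ ⁅⊤, ⊤⁆ from le_rfl)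
      rw [map_commutator] at this
      exact Subgroup.commutator_mono le_top le_top (this ⟨a, ha, rfl⟩)
    have hPD : (P : Subgroup L) ≤ D := fun a ha => mem_sup_left (by
      have h1 : (a : G) ∈ ⁅L, L⁆ ⊓ (R : Subgroup G) := hfoc ▸ (hPR ▸ mem_map_of_mem L.subtype ha : (a : G) ∈ (R : Subgroup G))
      have h2 : ⁅L, L⁆ = (_root_.commutator L).map L.subtype := by
        rw [_root_.commutator_def, map_commutator, ← MonoidHom.range_eq_map, range_subtype]
      obtain ⟨a', ha', e⟩ := h2 ▸ h1.1
      exact Subtype.ext e ▸ ha')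
    obtain ⟨j, -, hj⟩ := (Nat.dvd_prime_pow h.prime).1 (hk ▸ index_dvd_of_le (le_sup_right : M.subgroupOf L ≤ D))
    have h1 : D.index ∣ (P : Subgroup L).index := index_dvd_of_le hPD
    rw [hj] at h1
    rcases j with _ | j
    · exact hDne (index_eq_one.1 hj)
    · exact P.not_dvd_index ((dvd_pow_self p j.succ_ne_zero).trans h1)

end Cfsg.Agent.PNilCrit
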